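import Groth.Agent.Lead.Isoc.Lift

/-! Semisimplicity and classification over an algebraically closed residue field. -/

noncomputable section

open scoped Pointwise
open Isoc

universe u v w

namespace LeadIsoc

variable {p : ℕ} [Fact p.Prime] {k : Type u} [Field k] [CharP k p] [PerfectRing k p]

local notation "W" => WittVector p k
local notation "L" => FractionRing (WittVector p k)
local notation "ι" => algebraMap (WittVector p k) (FractionRing (WittVector p k))

variable {N : Type v} [AddCommGroup N] [Module (WittVector p k) N] [Module (FractionRing (WittVector p k)) N]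
  [IsScalarTower (WittVector p k) (FractionRing (WittVector p k)) N]
  [Module.Finite (FractionRing (WittVector p k)) N]
variable {τ : FractionRing (WittVector p k) →+* FractionRing (WittVector p k)} (hτ : Tw τ)

/-- Transport of purity along an intertwining linear map. -/
lemma pure_map {N₂ : Type w} [AddCommGroup N₂] [Module W N₂] [Module L N₂] [IsScalarTower W L N₂]
    {F : N →ₛₗ[τ] N} {F₂ : N₂ →ₛₗ[τ] N₂} (f : N →ₗ[L] N₂) (hf : ∀ x, f (F x) = F₂ (f x)) {μ : ℚ}
    {Q : Submodule L N} (h : Pure F μ Q) : Pure F₂ μ (Q.map f) := by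
  obtain ⟨M, r, s, hs, hμ, hfg, hsp, him⟩ := h
  have hit : ∀ n x, f (F^[n] x) = F₂^[n] (f x) := fun n x => Function.Semiconj.iterate_right hf n x
  refine ⟨M.map (f.restrictScalars W), r, s, hs, hμ, hfg.map _, ?_, ?_⟩
  · rw [← hsp, Submodule.map_span]; rfl
  · rw [Submodule.map_coe, ← Set.image_comp]
    conv_rhs => rw [← him, ← Set.image_comp]
    refine Set.image_congr fun x _ => ?_
    show tw F₂ r s (f x) = f (tw F r s x)
    rw [tw_apply, tw_apply, P, P, map_smul, hit]

include hτ in
lemma map_slopePart_le {N₂ : Type w} [AddCommGroup N₂] [Module W N₂] [Module L N₂] [IsScalarTower W L N₂]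
    [Module.Finite L N₂]
    {F : N →ₛₗ[τ] N} {F₂ : N₂ →ₛₗ[τ] N₂} (f : N →ₗ[L] N₂) (hf : ∀ x, f (F x) = F₂ (f x)) (μ : ℚ) :
    (slopePart F μ).map f ≤ slopePart F₂ μ := by
  have h := slopePart_mem (F := F) hτ μ
  refine le_slopePart hτ ⟨?_, pure_map f hf h.2⟩
  rintro _ ⟨x, hx, rfl⟩
  exact ⟨F x, h.1 x hx, hf x⟩

variable [IsAlgClosed k]

include hτ in
/-- A lattice automorphism has a spanning set of fixed vectors. -/
theorem fixed_span {G : N →ₛₗ[τ] N} {M : Submodule (WittVector p k) N} (hm : Moves τ) (h : Auto G M) :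
    Submodule.span L {v : N | G v = v} = ⊤ := by
  by_contra hne
  set Q := Submodule.span L {v : N | G v = v}
  have hQ : ∀ x ∈ Q, G x ∈ Q := by
    intro x hx
    induction hx using Submodule.span_induction with
    | mem y hy => rw [hy]; exact Submodule.subset_span hy
    | zero => simp
    | add a b _ _ ha hb => rw [map_add]; exact Q.add_mem ha hb
    | smul c y _ hy => rw [map_smulₛₗ]; exact Q.smul_mem _ hy
  haveI : Nontrivial (N ⧸ Q) := Submodule.Quotient.nontrivial_iff.2 hne
  have hQ' : Q ≤ Q.comap G := fun x hx => hQ x hx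
  -- the quotient
  have hA : Auto (Q.mapQ Q G hQ') (M.map (Q.mkQ.restrictScalars W)) := by
    refine ⟨mapQ_injective hτ h.inj Q hQ', ⟨h.lat.fg.map _, ?_⟩, ?_⟩
    · have : Submodule.span L ((M.map (Q.mkQ.restrictScalars W) : Submodule W (N ⧸ Q)) : Set (N ⧸ Q)) =
          (Submodule.span L (M : Set N)).map Q.mkQ := by rw [Submodule.map_span]; rfl
      rw [this, h.lat.span_eq_top, Submodule.map_top, Submodule.range_mkQ]
    · rw [Submodule.map_coe, ← Set.image_comp]
      conv_rhs => rw [← h.img, ← Set.image_comp]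
      rfl
  obtain ⟨v, hv, hv'⟩ := (lift hτ hm hA).2 inferInstance
  obtain ⟨x, rfl⟩ := Submodule.Quotient.mk_surjective _ v
  rw [Submodule.mapQ_apply, Submodule.Quotient.eq] at hv'
  -- the subspace
  set M' := M.comap (Q.subtype.restrictScalars W) with hM'
  have hA' : Auto (G.restrict hQ) M' := by
    refine ⟨fun a b e => Subtype.ext (h.inj (congrArg Subtype.val e)), ⟨?_, ?_⟩, ?_⟩
    · haveI : IsNoetherian W M := isNoetherian_of_fg_of_noetherian M h.lat.fg
      haveI : IsNoetherian W (M'.map (Q.subtype.restrictScalars W)) :=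
        isNoetherian_of_le (Submodule.map_comap_le _ _)
      exact Submodule.fg_of_fg_map_injective (Q.subtype.restrictScalars W) Subtype.val_injective (Module.Finite.iff_fg.1 inferInstance)
    · rw [eq_top_iff]
      intro y _
      obtain ⟨c, hc⟩ := exists_P_mem (p := p) (k := k) h.lat.span_eq_top (y : N)
      have h1 : P (p := p) (k := k) (c : ℤ) y ∈ Submodule.span L (M' : Set Q) := Submodule.subset_span hc
      have := Submodule.smul_mem _ ((p : L) ^ (-(c : ℤ))) h1
      rwa [← P_def, P_P, neg_add_cancel, P_zero] at this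
    · ext y
      constructor
      · rintro ⟨z, hz, rfl⟩; exact h.mem hz
      · intro hy
        obtain ⟨z, hz, hzy⟩ := h.img.ge hy
        have hzQ : z ∈ Q := stable_preimage hτ h.inj hQ (by rw [hzy]; exact y.2)
        exact ⟨⟨z, hzQ⟩, hz, Subtype.ext hzy⟩
  obtain ⟨z, hz⟩ := (lift hτ hm hA').1 ⟨G x - x, hv'⟩
  have hz' : G (z : N) - z = G x - x := congrArg Subtype.val hz
  apply hv
  rw [Submodule.Quotient.mk_eq_zero]
  have hfix : x - z ∈ Q := Submodule.subset_span (show G (x - z) = x - z by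
    rw [map_sub, ← sub_eq_zero, show G x - G (z : N) - (x - z) = (G x - x) - (G (z : N) - z) by abel, hz', sub_self])
  simpa using Q.add_mem hfix z.2

include hτ in
/-- Stable subspaces of a pure isocrystal have stable complements. -/
theorem pure_compl (hm : Moves τ) {F : N →ₛₗ[τ] N} (hF : Function.Bijective F) {μ : ℚ}
    (hpure : Pure F μ ⊤) (Q : Submodule L N) (hQ : ∀ x ∈ Q, F x ∈ Q) :
    ∃ R : Submodule L N, (∀ x ∈ R, F x ∈ R) ∧ IsCompl Q R := by
  classical
  obtain ⟨M, r, s, hs, -, hfg, hsp, him⟩ := hpure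
  set G := tw F r s
  have hA : Auto G M := ⟨tw_injective hF.1 r s, ⟨hfg, hsp⟩, him⟩
  have hspan := fixed_span (hτ.pow s) (hm.pow hs) hA
  obtain ⟨R₀, ⟨S, hS, hR₀, hdis⟩, hmax⟩ := set_has_maximal_iff_noetherian.2 (inferInstance : IsNoetherian L N)
    {R : Submodule L N | ∃ S : Set N, (∀ v ∈ S, G v = v) ∧ R = Submodule.span L S ∧ Disjoint Q R}
    ⟨⊥, ∅, by simp, by simp, disjoint_bot_right⟩
  have hsup : Q ⊔ R₀ = ⊤ := by
    by_contra hne
    obtain ⟨v, hv, hvn⟩ : ∃ v, G v = v ∧ v ∉ Q ⊔ R₀ := by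
      by_contra hc
      push_neg at hc
      exact hne (eq_top_iff.2 (hspan ▸ Submodule.span_le.2 hc))
    refine hmax (R₀ ⊔ Submodule.span L {v}) ⟨insert v S, ?_, ?_, ?_⟩ ?_
    · rintro w (rfl | hw)
      exacts [hv, hS w hw]
    · rw [Submodule.span_insert, hR₀, sup_comm]
    · rw [Submodule.disjoint_def]
      intro x hxQ hx
      obtain ⟨a, ha, b, hb, rfl⟩ := Submodule.mem_sup.1 hx
      obtain ⟨c, rfl⟩ := Submodule.mem_span_singleton.1 hb
      by_cases hc : c = 0
      · subst hc
        simp only [zero_smul, add_zero] at hxQ ⊢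
        exact Submodule.disjoint_def.1 hdis a hxQ ha
      · exfalso
        apply hvn
        have : v = c⁻¹ • ((a + c • v) - a) := by rw [add_sub_cancel_left, smul_smul, inv_mul_cancel₀ hc, one_smul]
        rw [this]
        exact Submodule.smul_mem _ _ (Submodule.sub_mem _ (Submodule.mem_sup_left hxQ) (Submodule.mem_sup_right ha))
    · refine lt_of_le_of_ne le_sup_left fun e => hvn (Submodule.mem_sup_right ?_)
      rw [e]; exact Submodule.mem_sup_right (Submodule.mem_span_singleton_self v)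
  have hR₀G : ∀ x ∈ R₀, G x ∈ R₀ := by
    intro x hx
    rw [hR₀] at hx ⊢
    induction hx using Submodule.span_induction with
    | mem y hy => rw [hS y hy]; exact Submodule.subset_span hy
    | zero => simp
    | add a b _ _ ha hb => rw [map_add]; exact Submodule.add_mem _ ha hb
    | smul c y _ hy => rw [map_smulₛₗ]; exact Submodule.smul_mem _ _ hy
  have hc : IsCompl Q R₀ := ⟨hdis, codisjoint_iff.2 hsup⟩
  let pr : N →ₗ[L] N := Q.subtype.comp (Submodule.projectionOnto Q R₀ hc)
  have hprG : ∀ x, pr (G x) = G (pr x) := by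
    intro x
    obtain ⟨a, ha, b, hb, rfl⟩ := Submodule.mem_sup.1 (hsup ▸ Submodule.mem_top : x ∈ Q ⊔ R₀)
    simp only [pr, LinearMap.comp_apply, map_add, Submodule.coe_subtype]
    rw [Submodule.projectionOnto_apply_left hc ⟨G a, iter_stable hQ r s a ha⟩,
      Submodule.projectionOnto_apply_of_mem_right hc (hR₀G b hb),
      Submodule.projectionOnto_apply_left hc ⟨a, ha⟩, Submodule.projectionOnto_apply_of_mem_right hc hb]
    simp
  have hprs : ∀ x, pr (F^[s] x) = F^[s] (pr x) := by
    intro x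
    apply P_inj (p := p) (k := k) (-r)
    rw [← tw_apply, show P (p := p) (k := k) (-r) (pr (F^[s] x)) = pr (P (p := p) (k := k) (-r) (F^[s] x))
      from (pr.map_smul _ _).symm, ← tw_apply]
    exact hprG x
  -- average the conjugates
  let e := Equiv.ofBijective F hF
  have he : ∀ x, F (e.symm x) = x := e.apply_symm_apply
  let conj : (N →ₗ[L] N) → (N →ₗ[L] N) := fun f =>
    { toFun := fun y => F (f (e.symm y))
      map_add' := fun x y => by
        rw [← map_add F, ← map_add f]
        congr 2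
        exact hF.1 (by rw [he, map_add F, he, he])
      map_smul' := fun c x => by
        obtain ⟨d, hd⟩ := tw_surj hτ c
        have : e.symm (c • x) = d • e.symm x := hF.1 (by rw [he, map_smulₛₗ F, hd, he])
        rw [this, map_smul, map_smulₛₗ F, hd]
        rfl }
  let π : ℕ → (N →ₗ[L] N) := fun i => conj^[i] pr
  have hπ : ∀ i x, π (i + 1) (F x) = F (π i x) := by
    intro i x
    show (conj^[i + 1] pr) (F x) = _
    rw [Function.iterate_succ_apply']
    show F ((conj^[i] pr) (e.symm (F x))) = _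
    rw [show e.symm (F x) = x from e.symm_apply_apply x]
  have hπit : ∀ i x, π i (F^[i] x) = F^[i] (pr x) := by
    intro i
    induction i with
    | zero => exact fun x => rfl
    | succ i ih => intro x; rw [Function.iterate_succ_apply', Function.iterate_succ_apply', hπ, ih]
  have hπs : π s = pr := by
    ext x
    obtain ⟨y, rfl⟩ := (hF.iterate s).2 x
    rw [hπit, hprs]
  have hπQ : ∀ i, (∀ x, π i x ∈ Q) ∧ ∀ x ∈ Q, π i x = x := by
    intro i
    induction i with
    | zero => exact ⟨fun x => (Submodule.projectionOnto Q R₀ hc x).2, fun x hx =>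
        congrArg Subtype.val (Submodule.projectionOnto_apply_left hc ⟨x, hx⟩)⟩
    | succ i ih =>
      refine ⟨fun x => ?_, fun x hx => ?_⟩ <;> obtain ⟨y, rfl⟩ := hF.2 x
      · rw [hπ]; exact hQ _ (ih.1 y)
      · rw [hπ, ih.2 y (stable_preimage hτ hF.1 hQ hx)]
  have hsne : (s : L) ≠ 0 := natCast_L_ne hs.ne'
  let av : N →ₗ[L] N := (s : L)⁻¹ • ∑ i ∈ Finset.range s, π i
  have hav : ∀ x, av (F x) = F (av x) := by
    intro x
    simp only [av, LinearMap.smul_apply, LinearMap.sum_apply, map_smulₛₗ F, map_inv₀, map_natCast, map_sum]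
    congr 1
    have h1 : ∑ i ∈ Finset.range s, π (i + 1) (F x) = ∑ i ∈ Finset.range s, π i (F x) := by
      have e1 := Finset.sum_range_succ' (fun i => π i (F x)) s
      rw [Finset.sum_range_succ, hπs] at e1
      exact (add_right_cancel e1).symm
    rw [← h1]
    exact Finset.sum_congr rfl fun i _ => hπ i x
  have havQ : ∀ x, av x ∈ Q := fun x => by
    simp only [av, LinearMap.smul_apply, LinearMap.sum_apply]
    exact Q.smul_mem _ (Q.sum_mem fun i _ => (hπQ i).1 x)
  have havid : ∀ x ∈ Q, av x = x := fun x hx => by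
    simp only [av, LinearMap.smul_apply, LinearMap.sum_apply]
    rw [Finset.sum_congr rfl fun i _ => (hπQ i).2 x hx, Finset.sum_const, Finset.card_range,
      ← Nat.cast_smul_eq_nsmul L, smul_smul, inv_mul_cancel₀ hsne, one_smul]
  refine ⟨LinearMap.ker av, fun x hx => ?_, ?_, ?_⟩
  · rw [LinearMap.mem_ker] at hx ⊢
    rw [hav, hx, map_zero]
  · rw [Submodule.disjoint_def]
    intro x hx hx'
    rw [LinearMap.mem_ker, havid x hx] at hx'
    exact hx'
  · rw [codisjoint_iff, eq_top_iff]
    intro x _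
    refine Submodule.mem_sup.2 ⟨av x, havQ x, x - av x, ?_, by abel⟩
    rw [LinearMap.mem_ker, map_sub, havid _ (havQ x), sub_self]

include hτ in
/-- Semisimplicity. -/
theorem stable_compl (hm : Moves τ) {F : N →ₛₗ[τ] N} (hF : Function.Bijective F)
    (Q : Submodule L N) (hQ : ∀ x ∈ Q, F x ∈ Q) :
    ∃ R : Submodule L N, (∀ x ∈ R, F x ∈ R) ∧ IsCompl Q R := by
  classical
  have hst : ∀ μ, ∀ x ∈ slopePart F μ, F x ∈ slopePart F μ := fun μ => (slopePart_mem hτ μ).1
  have hbij : ∀ μ, Function.Bijective (F.restrict (hst μ)) := fun μ =>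
    ⟨fun a b e => Subtype.ext (hF.1 (congrArg Subtype.val e)), fun y => by
      obtain ⟨x, hx⟩ := hF.2 (y : N)
      exact ⟨⟨x, stable_preimage hτ hF.1 (hst μ) (by rw [hx]; exact y.2)⟩, Subtype.ext hx⟩⟩
  have hloc : ∀ μ, ∃ R : Submodule L N, (∀ x ∈ R, F x ∈ R) ∧ R ≤ slopePart F μ ∧
      slopePart F μ ≤ Q ⊔ R ∧ Q ⊓ R = ⊥ := by
    intro μ
    obtain ⟨R, hR, hc⟩ := pure_compl hτ hm (hbij μ) ((pure_restrict_iff (hst μ) μ).2 (slopePart_mem hτ μ).2)
      (Q.comap (slopePart F μ).subtype) (fun x hx => hQ _ hx)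
    refine ⟨R.map (slopePart F μ).subtype, ?_, Submodule.map_subtype_le _ _, fun x hx => ?_, ?_⟩
    · rintro _ ⟨x, hx, rfl⟩
      exact ⟨_, hR x hx, rfl⟩
    · obtain ⟨a, ha, b, hb, hab⟩ := Submodule.mem_sup.1 (hc.sup_eq_top ▸ Submodule.mem_top :
        (⟨x, hx⟩ : slopePart F μ) ∈ Q.comap (slopePart F μ).subtype ⊔ R)
      exact Submodule.mem_sup.2 ⟨a, ha, b, ⟨b, hb, rfl⟩, congrArg Subtype.val hab⟩
    · rw [eq_bot_iff]
      rintro _ ⟨hxQ, x, hx, rfl⟩
      simp [Submodule.disjoint_def.1 hc.disjoint x hxQ hx]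
  choose R hRst hRle hRsup hRdis using hloc
  refine ⟨⨆ μ, R μ, fun x hx => ?_, ?_, ?_⟩
  · induction hx using Submodule.iSup_induction' with
    | mem μ y hy => exact Submodule.mem_iSup_of_mem μ (hRst μ y hy)
    | zero => simp
    | add a b _ _ ha hb => rw [map_add]; exact Submodule.add_mem _ ha hb
  · rw [Submodule.disjoint_def]
    intro x hxQ hxR
    -- decompose `x` inside `Q`
    have hQdec : x ∈ ⨆ μ, Q ⊓ slopePart F μ := by
      have hFQ : Function.Injective (F.restrict hQ) := fun a b e => Subtype.ext (hF.1 (congrArg Subtype.val e))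
      have hmem : (⟨x, hxQ⟩ : Q) ∈ ⨆ μ, slopePart (F.restrict hQ) μ := by
        rw [slope_iSup hτ hFQ]; exact Submodule.mem_top
      have hle : (⨆ μ, slopePart (F.restrict hQ) μ).map Q.subtype ≤ ⨆ μ, Q ⊓ slopePart F μ := by
        rw [Submodule.map_iSup]
        exact iSup_mono fun μ => le_inf (Submodule.map_subtype_le _ _)
          (map_slopePart_le hτ Q.subtype (fun _ => rfl) μ)
      exact hle ⟨_, hmem, rfl⟩
    obtain ⟨f, hf, hfx⟩ := (Submodule.mem_iSup_iff_exists_finsupp _ _).1 hQdec
    obtain ⟨g, hg, hgx⟩ := (Submodule.mem_iSup_iff_exists_finsupp _ _).1 hxR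
    have key : ∀ μ, f μ = g μ := by
      intro μ
      have hd : ∀ ν, (f - g) ν ∈ slopePart F ν := fun ν => by
        rw [Finsupp.sub_apply]; exact Submodule.sub_mem _ (hf ν).2 (hRle ν (hg ν))
      have hsum : (f - g).sum (fun _ y => y) = 0 := by
        rw [Finsupp.sum_sub_index (fun _ _ _ => rfl), hfx, hgx, sub_self]
      by_cases hμ : μ ∈ (f - g).support
      · rw [← sub_eq_zero, ← Finsupp.sub_apply]
        refine Submodule.disjoint_def.1 (slope_indep hτ hF.1 μ) _ (hd μ) ?_
        have h1 : (f - g) μ = -∑ ν ∈ (f - g).support.erase μ, (f - g) ν := by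
          rw [eq_neg_iff_add_eq_zero, Finset.add_sum_erase _ (fun ν => (f - g) ν) hμ]
          exact hsum
        rw [h1]
        refine Submodule.neg_mem _ (Submodule.sum_mem _ fun ν hν => ?_)
        exact Submodule.mem_iSup_of_mem ν (Submodule.mem_iSup_of_mem (Finset.ne_of_mem_erase hν) (hd ν))
      · rw [Finsupp.notMem_support_iff, Finsupp.sub_apply, sub_eq_zero] at hμ
        exact hμ
    have hz : f = 0 := by
      ext μ
      have := (hRdis μ).le ⟨(hf μ).1, key μ ▸ hg μ⟩
      simpa using this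
    rw [← hfx, hz, Finsupp.sum_zero_index]
  · rw [codisjoint_iff, eq_top_iff, ← slope_iSup hτ hF.1]
    exact iSup_le fun μ => (hRsup μ).trans (sup_le_sup_left (le_iSup R μ) _)

end LeadIsoc
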