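import Groth.Prelude.Def_Isoc
import Mathlib

/-! Isocrystals: scalars, twists, lattices, determinants. -/

noncomputable section

open scoped Pointwise
open Isoc

universe u v w

namespace LeadIsoc

variable {p : ℕ} [Fact p.Prime] {k : Type u} [Field k] [CharP k p] [PerfectRing k p]

local notation "W" => WittVector p k
local notation "L" => FractionRing (WittVector p k)
local notation "ι" => algebraMap (WittVector p k) (FractionRing (WittVector p k))

lemma ι_inj : Function.Injective (ι : W → L) := IsFractionRing.injective W L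

lemma pW_ne : (p : W) ≠ 0 := (WittVector.irreducible p).ne_zero

lemma pL_ne : (p : L) ≠ 0 := by
  intro h
  apply pW_ne (p := p) (k := k)
  apply ι_inj
  rw [map_natCast, h, map_zero]

lemma ι_p_pow (n : ℕ) : ι ((p : W) ^ n) = (p : L) ^ (n : ℤ) := by
  rw [map_pow, map_natCast, zpow_natCast]

lemma ι_p_dvd {w : W} : (p : W) ∣ w ↔ w.coeff 0 = 0 := by
  constructor
  · rintro ⟨c, rfl⟩
    rw [← WittVector.constantCoeff_apply, map_mul, WittVector.constantCoeff_apply,
      WittVector.coeff_p_zero, zero_mul]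
  · intro h
    by_cases hw : w = 0
    · subst hw; exact dvd_zero _
    · obtain ⟨m, b, hb, rfl⟩ := WittVector.exists_eq_pow_p_mul w hw
      cases m with
      | zero => simp at h; exact absurd h hb
      | succ m => exact Dvd.dvd.mul_right (dvd_pow_self _ (Nat.succ_ne_zero m)) _

lemma exists_unit_pow {c : L} (hc : c ≠ 0) : ∃ r : ℤ, IsOrdP c r := by
  obtain ⟨⟨a, b⟩, h⟩ := IsLocalization.surj (nonZeroDivisors W) c
  have hb : (b : W) ≠ 0 := nonZeroDivisors.ne_zero b.2
  have ha : a ≠ 0 := by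
    rintro rfl
    rw [map_zero, mul_eq_zero] at h
    rcases h with h | h
    · exact hc h
    · exact hb (ι_inj (h.trans (map_zero _).symm))
  obtain ⟨m, u, hu⟩ := WittVector.exists_eq_pow_p_mul' a ha
  obtain ⟨n, v, hv⟩ := WittVector.exists_eq_pow_p_mul' (b : W) hb
  refine ⟨(m : ℤ) - n, u * v⁻¹, ?_⟩
  simp only at h
  rw [hu, hv, map_mul, map_mul, ι_p_pow, ι_p_pow] at h
  have hv1 : ι (v : W) * ι ((v⁻¹ : Wˣ) : W) = 1 := by rw [← map_mul, Units.mul_inv, map_one]
  have hp := zpow_ne_zero (n : ℤ) (pL_ne (p := p) (k := k))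
  rw [zpow_sub₀ pL_ne, Units.val_mul, map_mul, div_mul_eq_mul_div, eq_div_iff hp]
  calc c * (p : L) ^ (n : ℤ) = c * ((p : L) ^ (n : ℤ) * ι (v : W)) * ι ((v⁻¹ : Wˣ) : W) := by
        rw [mul_assoc c, mul_assoc, hv1, mul_one]
    _ = _ := by rw [h]; ring

/-- Integrality. -/
def IsInt (c : L) : Prop := ∃ w : W, c = ι w

lemma ordP_int {c : L} {r : ℤ} (h : IsOrdP c r) : IsInt c ↔ 0 ≤ r := by
  obtain ⟨u, rfl⟩ := h
  constructor
  · rintro ⟨w, hw⟩
    by_contra hr
    push_neg at hr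
    obtain ⟨m, hm⟩ := Int.exists_eq_neg_ofNat hr.le
    have hm0 : m ≠ 0 := by omega
    subst hm
    have h1 : ι ((p : W) ^ m * w) = ι (u : W) := by
      rw [map_mul, ι_p_pow, ← hw, ← mul_assoc, ← zpow_add₀ pL_ne]; simp
    have hu : IsUnit ((p : W) ^ m * w) := by rw [ι_inj h1]; exact u.isUnit
    exact (WittVector.irreducible p).not_isUnit ((isUnit_pow_iff hm0).1 (isUnit_of_mul_isUnit_left hu))
  · intro hr
    obtain ⟨m, rfl⟩ := Int.eq_ofNat_of_zero_le hr
    exact ⟨(p : W) ^ m * u, by rw [map_mul, ι_p_pow]⟩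

lemma ordP_ne {c : L} {r : ℤ} (h : IsOrdP c r) : c ≠ 0 := by
  obtain ⟨u, rfl⟩ := h
  exact mul_ne_zero (zpow_ne_zero _ pL_ne) (fun h => u.ne_zero (ι_inj (h.trans (map_zero _).symm)))

lemma ordP_mul {c d : L} {r s : ℤ} (h : IsOrdP c r) (h' : IsOrdP d s) : IsOrdP (c * d) (r + s) := by
  obtain ⟨u, rfl⟩ := h
  obtain ⟨v, rfl⟩ := h'
  exact ⟨u * v, by rw [zpow_add₀ pL_ne, Units.val_mul, map_mul]; ring⟩

lemma ordP_inv {c : L} {r : ℤ} (h : IsOrdP c r) : IsOrdP c⁻¹ (-r) := by
  obtain ⟨u, rfl⟩ := h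
  refine ⟨u⁻¹, ?_⟩
  rw [mul_inv, ← zpow_neg]
  congr 1
  apply inv_eq_of_mul_eq_one_right
  rw [← map_mul, Units.mul_inv, map_one]

lemma ordP_p (r : ℤ) : IsOrdP ((p : L) ^ r) r := ⟨1, by simp⟩

lemma ordP_unique {c : L} {r s : ℤ} (h : IsOrdP c r) (h' : IsOrdP c s) : r = s := by
  have h1 : IsOrdP (1 : L) (r - s) := by
    have := ordP_mul h (ordP_inv h')
    rwa [mul_inv_cancel₀ (ordP_ne h), ← sub_eq_add_neg] at this
  have h2 : IsOrdP (1 : L) (s - r) := by simpa using ordP_inv h1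
  have a := (ordP_int h1).1 ⟨1, (map_one _).symm⟩
  have b := (ordP_int h2).1 ⟨1, (map_one _).symm⟩
  omega

open Classical in
/-- The valuation (0 at 0). -/
def vp (c : L) : ℤ := if h : ∃ r, IsOrdP c r then h.choose else 0

lemma vp_eq {c : L} {r : ℤ} (h : IsOrdP c r) : vp c = r := by
  have he : ∃ r, IsOrdP c r := ⟨r, h⟩
  simp only [vp, dif_pos he]
  exact ordP_unique he.choose_spec h

lemma vp_spec {c : L} (hc : c ≠ 0) : IsOrdP c (vp c) := by
  obtain ⟨r, hr⟩ := exists_unit_pow hc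
  rwa [vp_eq hr]

lemma vp_mul {c d : L} (hc : c ≠ 0) (hd : d ≠ 0) : vp (c * d) = vp c + vp d :=
  vp_eq (ordP_mul (vp_spec hc) (vp_spec hd))

lemma vp_zpow (r : ℤ) : vp ((p : L) ^ r) = r := vp_eq (ordP_p r)

lemma isInt_iff_vp {c : L} (hc : c ≠ 0) : IsInt c ↔ 0 ≤ vp c := ordP_int (vp_spec hc)

lemma vp_zero_unit {c : L} (hc : c ≠ 0) (h : vp c = 0) : ∃ u : Wˣ, c = ι u := by
  obtain ⟨u, hu⟩ := vp_spec hc
  exact ⟨u, by simpa [h] using hu⟩

/-! ### Twists -/

/-- A twist: an automorphism of `L` preserving `W` and fixing `p`. -/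
structure Tw (τ : L →+* L) : Prop where
  pres : ∀ w : W, ∃ w', τ (ι w) = ι w'
  surjW : ∀ w' : W, ∃ w, τ (ι w) = ι w'
  unit : ∀ u : Wˣ, ∃ u' : Wˣ, τ (ι u) = ι u'

lemma Tw.pow {τ : L →+* L} (h : Tw τ) : ∀ n : ℕ, Tw (τ ^ n) := by
  intro n
  induction n with
  | zero => exact ⟨fun w => ⟨w, rfl⟩, fun w => ⟨w, rfl⟩, fun u => ⟨u, rfl⟩⟩
  | succ n ih =>
    refine ⟨fun w => ?_, fun w => ?_, fun u => ?_⟩
    · obtain ⟨a, ha⟩ := h.pres w
      obtain ⟨b, hb⟩ := ih.pres a
      exact ⟨b, by rw [pow_succ, RingHom.coe_mul, Function.comp_apply, ha, hb]⟩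
    · obtain ⟨a, ha⟩ := ih.surjW w
      obtain ⟨b, hb⟩ := h.surjW a
      exact ⟨b, by rw [pow_succ, RingHom.coe_mul, Function.comp_apply, hb, ha]⟩
    · obtain ⟨a, ha⟩ := h.unit u
      obtain ⟨b, hb⟩ := ih.unit a
      exact ⟨b, by rw [pow_succ, RingHom.coe_mul, Function.comp_apply, ha, hb]⟩

lemma tw_frob (a : ℤ) : Tw (frob p k a) := by
  refine ⟨fun w => ⟨_, frob_algebraMap p k a w⟩, fun w => ?_, fun u => ?_⟩
  · exact ⟨(WittVector.frobeniusEquiv p k ^ a).symm w, by rw [frob_algebraMap, RingEquiv.apply_symm_apply]⟩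
  · exact ⟨Units.map (WittVector.frobeniusEquiv p k ^ a).toRingHom.toMonoidHom u, frob_algebraMap p k a u⟩

variable {τ : FractionRing (WittVector p k) →+* FractionRing (WittVector p k)} (hτ : Tw τ)

lemma tw_p (r : ℤ) : τ ((p : L) ^ r) = (p : L) ^ r := by rw [map_zpow₀, map_natCast]

include hτ in
lemma tw_vp {c : L} (hc : c ≠ 0) : vp (τ c) = vp c := by
  obtain ⟨u, hu⟩ := vp_spec hc
  obtain ⟨u', hu'⟩ := hτ.unit u
  apply vp_eq
  refine ⟨u', ?_⟩
  conv_lhs => rw [hu]
  rw [map_mul, tw_p, hu']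

include hτ in
lemma tw_surj : Function.Surjective τ := by
  intro c
  obtain ⟨⟨a, b⟩, h⟩ := IsLocalization.surj (nonZeroDivisors W) c
  obtain ⟨a', ha'⟩ := hτ.surjW a
  obtain ⟨b', hb'⟩ := hτ.surjW (b : W)
  refine ⟨ι a' / ι b', ?_⟩
  have hb : ι (b : W) ≠ 0 := fun h0 => nonZeroDivisors.ne_zero b.2 (ι_inj (h0.trans (map_zero _).symm))
  rw [map_div₀, ha', hb', div_eq_iff hb]
  exact h.symm

/-! ### Vector spaces with lattices -/

variable {N : Type v} [AddCommGroup N] [Module (WittVector p k) N] [Module (FractionRing (WittVector p k)) N]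
  [IsScalarTower (WittVector p k) (FractionRing (WittVector p k)) N]

lemma ι_smul (w : W) (x : N) : ι w • x = w • x := algebraMap_smul _ w x

/-- `p^r · x`. -/
def P (r : ℤ) (x : N) : N := (p : L) ^ r • x

@[simp] lemma P_zero (x : N) : P (p := p) (k := k) 0 x = x := by simp [P]

lemma P_P (r s : ℤ) (x : N) : P (p := p) (k := k) r (P (p := p) (k := k) s x) = P (p := p) (k := k) (r + s) x := by
  rw [P, P, P, smul_smul, zpow_add₀ pL_ne]

lemma P_add (r : ℤ) (x y : N) :
    P (p := p) (k := k) r (x + y) = P (p := p) (k := k) r x + P (p := p) (k := k) r y := smul_add _ _ _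

lemma P_sub (r : ℤ) (x y : N) :
    P (p := p) (k := k) r (x - y) = P (p := p) (k := k) r x - P (p := p) (k := k) r y := smul_sub _ _ _

lemma P_inj (r : ℤ) : Function.Injective (P (p := p) (k := k) (N := N) r) :=
  fun x y h => by simpa [P_P] using congrArg (P (p := p) (k := k) (-r)) h

lemma P_nat (n : ℕ) (x : N) : P (p := p) (k := k) n x = ((p : W) ^ n) • x := by
  rw [P, ← ι_p_pow, ι_smul]

lemma P_mem_mono {X : Submodule W N} {x : N} {r r' : ℤ} (hr : r ≤ r')
    (h : P (p := p) (k := k) r x ∈ X) : P (p := p) (k := k) r' x ∈ X := by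
  obtain ⟨n, hn⟩ := Int.eq_ofNat_of_zero_le (sub_nonneg.2 hr)
  rw [show r' = (n : ℤ) + r by omega, ← P_P, P_nat]
  exact X.smul_mem _ h

lemma P_smul_W (r : ℤ) (w : W) (x : N) : P (p := p) (k := k) r (w • x) = w • P (p := p) (k := k) r x := by
  rw [P, P, ← ι_smul, ← ι_smul, smul_comm]

lemma mem_pPow {r : ℤ} {M : Submodule W N} {x : N} :
    x ∈ pPow r M ↔ P (p := p) (k := k) (-r) x ∈ M := by
  rw [pPow, Submodule.mem_smul_pointwise_iff_exists]
  constructor
  · rintro ⟨y, hy, rfl⟩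
    show P (p := p) (k := k) (-r) (P (p := p) (k := k) r y) ∈ M
    rwa [P_P, neg_add_cancel, P_zero]
  · intro h
    exact ⟨_, h, by show P (p := p) (k := k) r _ = x; rw [P_P, add_neg_cancel, P_zero]⟩

variable {σ₀ : FractionRing (WittVector p k) →+* FractionRing (WittVector p k)}

lemma map_P (G : N →ₛₗ[σ₀] N) (r : ℤ) (x : N) :
    G (P (p := p) (k := k) r x) = P (p := p) (k := k) r (G x) := by
  rw [P, P, map_smulₛₗ, tw_p]

lemma iterate_P (G : N →ₛₗ[σ₀] N) (n : ℕ) (r : ℤ) (x : N) :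
    G^[n] (P (p := p) (k := k) r x) = P (p := p) (k := k) r (G^[n] x) := by
  induction n with
  | zero => rfl
  | succ n ih => rw [Function.iterate_succ_apply', Function.iterate_succ_apply', ih, map_P]

/-- The twisted iterate `p^{-r} F^s`. -/
def tw (F : N →ₛₗ[τ] N) (r : ℤ) (s : ℕ) : N →ₛₗ[τ ^ s] N := (p : L) ^ (-r) • Isoc.iter F s

lemma tw_apply (F : N →ₛₗ[τ] N) (r : ℤ) (s : ℕ) (x : N) :
    tw F r s x = P (p := p) (k := k) (-r) (F^[s] x) := rfl

lemma tw_iterate (F : N →ₛₗ[τ] N) (r : ℤ) (s n : ℕ) (x : N) :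
    (tw F r s)^[n] x = P (p := p) (k := k) (-(r * n)) (F^[s * n] x) := by
  induction n with
  | zero => simp
  | succ n ih =>
    rw [Function.iterate_succ_apply', ih, tw_apply, iterate_P, P_P, ← Function.iterate_add_apply]
    congr 2
    · push_cast; ring
    · ring

lemma latImg_le_pPow_iff (F : N →ₛₗ[τ] N) (s : ℕ) (r : ℤ) (M : Submodule W N) :
    latImg F s M ≤ pPow r M ↔ Set.MapsTo (tw F r s) M M := by
  rw [latImg, Submodule.span_le]
  constructor
  · intro h x hx
    rw [SetLike.mem_coe, tw_apply, ← mem_pPow]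
    exact h ⟨x, hx, rfl⟩
  · rintro h _ ⟨x, hx, rfl⟩
    rw [SetLike.mem_coe, mem_pPow]
    exact h hx

include hτ in
lemma map_W (F : N →ₛₗ[τ] N) (w : W) : ∃ w' : W, ∀ x, F (w • x) = w' • F x := by
  obtain ⟨w', hw'⟩ := hτ.pres w
  exact ⟨w', fun x => by rw [← ι_smul, map_smulₛₗ, hw', ι_smul]⟩

include hτ in
lemma map_W' (F : N →ₛₗ[τ] N) (w' : W) : ∃ w : W, ∀ x, F (w • x) = w' • F x := by
  obtain ⟨w, hw⟩ := hτ.surjW w'
  exact ⟨w, fun x => by rw [← ι_smul, map_smulₛₗ, hw, ι_smul]⟩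

/-- The image of a `W`-submodule. -/
def img (hτ : Tw τ) (F : N →ₛₗ[τ] N) (X : Submodule W N) : Submodule W N where
  carrier := F '' X
  zero_mem' := ⟨0, X.zero_mem, map_zero F⟩
  add_mem' := by
    rintro _ _ ⟨a, ha, rfl⟩ ⟨b, hb, rfl⟩
    exact ⟨a + b, X.add_mem ha hb, map_add F a b⟩
  smul_mem' := by
    rintro w _ ⟨a, ha, rfl⟩
    obtain ⟨w', hw'⟩ := map_W' hτ F w
    exact ⟨w' • a, X.smul_mem _ ha, hw' a⟩

lemma mem_img {F : N →ₛₗ[τ] N} {X : Submodule W N} {y : N} :
    y ∈ img hτ F X ↔ ∃ x ∈ X, F x = y := Iff.rfl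

include hτ in
lemma latImg_eq_pPow_iff (F : N →ₛₗ[τ] N) (s : ℕ) (r : ℤ) (M : Submodule W N) :
    latImg F s M = pPow r M ↔ tw F r s '' M = M := by
  constructor
  · intro h
    apply Set.eq_of_subset_of_subset
    · exact Set.mapsTo_iff_image_subset.1 ((latImg_le_pPow_iff F s r M).1 h.le)
    · intro y hy
      have hmem : P (p := p) (k := k) r y ∈ latImg F s M := by
        rw [h, mem_pPow, P_P, neg_add_cancel, P_zero]; exact hy
      have : latImg F s M ≤ img (hτ.pow s) (Isoc.iter F s) M :=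
        Submodule.span_le.2 fun z ⟨x, hx, hz⟩ => ⟨x, hx, hz⟩
      obtain ⟨x, hx, hxy⟩ := this hmem
      refine ⟨x, hx, ?_⟩
      rw [tw_apply]
      show P (p := p) (k := k) (-r) (Isoc.iter F s x) = y
      rw [hxy, P_P, neg_add_cancel, P_zero]
  · intro h
    refine le_antisymm ((latImg_le_pPow_iff F s r M).2 (Set.mapsTo_iff_image_subset.2 h.le)) ?_
    intro z hz
    rw [mem_pPow] at hz
    obtain ⟨x, hx, hxz⟩ := h.ge hz
    refine Submodule.subset_span ⟨x, hx, P_inj (p := p) (k := k) (-r) ?_⟩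
    rw [← hxz, tw_apply]

lemma mapsTo_iterate {α : Type*} {f : α → α} {s : Set α} (h : Set.MapsTo f s s) (n : ℕ) :
    Set.MapsTo f^[n] s s := h.iterate n

lemma image_iterate {α : Type*} {f : α → α} {s : Set α} (h : f '' s = s) (n : ℕ) :
    f^[n] '' s = s := by
  induction n with
  | zero => simp
  | succ n ih => rw [Function.iterate_succ', Set.image_comp, ih, h]

lemma twMul_image {F : N →ₛₗ[τ] N} {r : ℤ} {s : ℕ} {M : Submodule W N} (h : tw F r s '' M = M)
    (n : ℕ) : tw F (r * n) (s * n) '' M = M := by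
  conv_rhs => rw [← image_iterate h n]
  apply Set.image_congr
  intro x _
  rw [tw_iterate, tw_apply]

/-- A lattice: `W`-integral span of a basis. -/
lemma exists_basis [Module.Finite L N] {M : Submodule W N} (hM : M.IsLattice L) :
    ∃ B : Module.Basis (Fin (Module.finrank L N)) L N, ∀ x, x ∈ M ↔ ∀ i, IsInt (B.repr x i) := by
  haveI := hM
  let b := Module.Free.chooseBasis W M
  let B₀ := b.extendOfIsLattice L
  haveI : Fintype (Module.Free.ChooseBasisIndex W M) := inferInstance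
  have hcard : Fintype.card (Module.Free.ChooseBasisIndex W M) = Module.finrank L N :=
    (Module.finrank_eq_card_basis B₀).symm
  let e := (Fintype.equivFin _).trans (finCongr hcard)
  refine ⟨B₀.reindex e, fun x => ?_⟩
  have hB : ∀ i, B₀ i = (b i : N) := fun i => Module.Basis.extendOfIsLattice_apply L b i
  constructor
  · intro hx i
    refine ⟨b.repr ⟨x, hx⟩ (e.symm i), ?_⟩
    have h1 : x = ∑ j, (b.repr ⟨x, hx⟩ j) • (b j : N) := by
      have := congrArg (fun z : M => (z : N)) (b.sum_repr ⟨x, hx⟩)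
      simp only [Submodule.coe_sum, Submodule.coe_smul] at this
      exact this.symm
    conv_lhs => rw [h1]
    simp only [Module.Basis.repr_reindex_apply, map_sum, ← ι_smul, map_smul, ← hB,
      Module.Basis.repr_self, Finsupp.coe_finset_sum, Finset.sum_apply, Finsupp.smul_apply,
      Finsupp.single_apply, smul_eq_mul, mul_ite, mul_one, mul_zero, Finset.sum_ite_eq',
      Finset.mem_univ, if_true]
  · intro h
    rw [← (B₀.reindex e).sum_repr x]
    refine Submodule.sum_mem _ fun i _ => ?_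
    obtain ⟨w, hw⟩ := h i
    rw [hw, ι_smul, Module.Basis.reindex_apply, hB]
    exact M.smul_mem _ (b (e.symm i)).2

lemma exists_P_mem {M : Submodule W N} (hM : Submodule.span L (M : Set N) = ⊤) (x : N) :
    ∃ c : ℕ, P (p := p) (k := k) (c : ℤ) x ∈ M := by
  have hx : x ∈ Submodule.span L (M : Set N) := hM ▸ Submodule.mem_top
  induction hx using Submodule.span_induction with
  | mem y hy => exact ⟨0, by simpa using hy⟩
  | zero => exact ⟨0, by simp⟩
  | add a b _ _ ha hb =>
    obtain ⟨c, hc⟩ := ha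
    obtain ⟨d, hd⟩ := hb
    refine ⟨c + d, ?_⟩
    rw [P_add]
    exact M.add_mem (P_mem_mono (by push_cast; omega) hc) (P_mem_mono (by push_cast; omega) hd)
  | smul t y _ hy =>
    obtain ⟨c, hc⟩ := hy
    by_cases ht : t = 0
    · exact ⟨0, by simp [ht]⟩
    · obtain ⟨u, hu⟩ := vp_spec ht
      obtain ⟨nA, hnA⟩ : ∃ nA : ℕ, -(vp t) ≤ nA := ⟨(vp t).natAbs, by omega⟩
      refine ⟨c + nA, ?_⟩
      rw [hu, mul_smul, ι_smul]
      show P (p := p) (k := k) _ (P (p := p) (k := k) (vp t) ((u : W) • y)) ∈ M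
      rw [P_P, P_smul_W]
      exact M.smul_mem _ (P_mem_mono (by push_cast; omega) hc)

/-- Finitely generated submodules are absorbed by a lattice. -/
lemma absorb {M : Submodule W N} (hM : Submodule.span L (M : Set N) = ⊤) {X : Submodule W N}
    (hX : X.FG) : ∃ c : ℕ, ∀ x ∈ X, P (p := p) (k := k) (c : ℤ) x ∈ M := by
  obtain ⟨s, rfl⟩ := hX
  choose c hc using exists_P_mem (p := p) (k := k) hM
  refine ⟨s.sup c, fun x hx => ?_⟩
  induction hx using Submodule.span_induction with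
  | mem y hy => exact P_mem_mono (Int.ofNat_le.2 (Finset.le_sup hy)) (hc y)
  | zero => simp [P]
  | add a b _ _ ha hb => rw [P_add]; exact M.add_mem ha hb
  | smul t y _ hy => rw [P_smul_W]; exact M.smul_mem _ hy

lemma separated [Module.Finite L N] {M : Submodule W N} (hM : M.IsLattice L) {x : N}
    (h : ∀ n : ℕ, P (p := p) (k := k) (-(n : ℤ)) x ∈ M) : x = 0 := by
  obtain ⟨B, hB⟩ := exists_basis hM
  by_contra hx
  obtain ⟨i, hi⟩ : ∃ i, B.repr x i ≠ 0 := by
    by_contra hc
    push_neg at hc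
    exact hx (B.repr.map_eq_zero_iff.1 (Finsupp.ext hc))
  have h1 := (hB _).1 (h ((vp (B.repr x i)).natAbs + 1)) i
  rw [P, map_smul, Finsupp.smul_apply, smul_eq_mul] at h1
  rw [isInt_iff_vp (mul_ne_zero (zpow_ne_zero _ pL_ne) hi),
    vp_mul (zpow_ne_zero _ pL_ne) hi, vp_zpow] at h1
  omega

/-! ### Determinants -/

variable {n : ℕ}

lemma repr_map (B : Module.Basis (Fin n) L N) (F : N →ₛₗ[τ] N) (x : N) (i : Fin n) :
    B.repr (F x) i = ∑ j, B.repr (F (B j)) i * τ (B.repr x j) := by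
  conv_lhs => rw [← B.sum_repr x]
  simp only [map_sum, map_smulₛₗ, map_smul, Finsupp.coe_finset_sum, Finset.sum_apply,
    Finsupp.smul_apply, smul_eq_mul]
  exact Finset.sum_congr rfl fun j _ => mul_comm _ _

lemma detCoeff_comp (B : Module.Basis (Fin n) L N) (F : N →ₛₗ[τ] N) (G : N →ₛₗ[σ₀] N)
    {σ' : L →+* L} (H : N →ₛₗ[σ'] N) (hH : ∀ x, H x = F (G x)) :
    detCoeff B H = detCoeff B F * τ (detCoeff B G) := by
  unfold detCoeff
  rw [RingHom.map_det, ← Matrix.det_mul]
  congr 1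
  ext i j
  simp only [Matrix.of_apply, Matrix.mul_apply, RingHom.mapMatrix_apply, Matrix.map_apply]
  rw [hH, repr_map]

lemma detCoeff_smul (B : Module.Basis (Fin n) L N) (c : L) (F : N →ₛₗ[τ] N) :
    detCoeff B (c • F) = c ^ n * detCoeff B F := by
  unfold detCoeff
  have : (Matrix.of fun i j => B.repr ((c • F) (B j)) i) = c • Matrix.of fun i j => B.repr (F (B j)) i := by
    ext i j; simp
  rw [this, Matrix.det_smul, Fintype.card_fin]

lemma detCoeff_basis (B B' : Module.Basis (Fin n) L N) (F : N →ₛₗ[τ] N) :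
    detCoeff B F * τ (B.toMatrix B').det = (B.toMatrix B').det * detCoeff B' F := by
  unfold detCoeff
  rw [RingHom.map_det, ← Matrix.det_mul, ← Matrix.det_mul]
  congr 1
  ext i j
  simp only [Matrix.of_apply, Matrix.mul_apply, RingHom.mapMatrix_apply, Matrix.map_apply,
    Module.Basis.toMatrix_apply]
  rw [← repr_map]
  conv_lhs => rw [← B'.sum_repr (F (B' j))]
  simp only [map_sum, map_smul, Finsupp.coe_finset_sum, Finset.sum_apply, Finsupp.smul_apply,
    smul_eq_mul]
  exact Finset.sum_congr rfl fun j _ => mul_comm _ _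

lemma detCoeff_one (B : Module.Basis (Fin n) L N) (F : N →ₛₗ[τ] N) (h : ∀ x, F x = x) :
    detCoeff B F = 1 := by
  unfold detCoeff
  have : (Matrix.of fun i j => B.repr (F (B j)) i) = (1 : Matrix (Fin n) (Fin n) L) := by
    ext i j; simp [h, Matrix.one_apply, Finsupp.single_apply, eq_comm]
  rw [this, Matrix.det_one]

include hτ in
lemma linIndep_map {F : N →ₛₗ[τ] N} (hF : Function.Injective F) {κ : Type*} {v : κ → N}
    (hv : LinearIndependent L v) : LinearIndependent L (fun i => F (v i)) := by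
  rw [linearIndependent_iff'] at hv ⊢
  intro s g hg i hi
  choose c hc using tw_surj hτ
  have : F (∑ j ∈ s, c (g j) • v j) = F 0 := by
    rw [map_sum, map_zero]
    simpa only [map_smulₛₗ, hc] using hg
  have := hv s (fun j => c (g j)) (hF this) i hi
  rw [← hc (g i), this, map_zero]

include hτ in
lemma detCoeff_ne_zero (B : Module.Basis (Fin n) L N) {F : N →ₛₗ[τ] N} (hF : Function.Injective F) :
    detCoeff B F ≠ 0 := by
  intro h
  obtain ⟨v, hv, hv0⟩ := Matrix.exists_mulVec_eq_zero_iff.2 h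
  have hli := Fintype.linearIndependent_iff.1 (linIndep_map hτ hF B.linearIndependent) v ?_
  · exact hv (funext hli)
  · apply B.repr.injective
    rw [map_zero]
    ext i
    simp only [map_sum, map_smul, Finsupp.coe_finset_sum, Finset.sum_apply, Finsupp.smul_apply,
      smul_eq_mul, Finsupp.coe_zero, Pi.zero_apply]
    have := congrFun hv0 i
    simp only [Matrix.mulVec, dotProduct, Matrix.of_apply, Pi.zero_apply] at this
    rw [← this]
    exact Finset.sum_congr rfl fun j _ => mul_comm _ _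

/-- `orddet`. -/
def od [Module.Finite L N] (F : N →ₛₗ[τ] N) : ℤ := vp (detCoeff (Module.finBasis L N) F)

include hτ in
lemma od_eq [Module.Finite L N] {F : N →ₛₗ[τ] N} (hF : Function.Injective F)
    {h : ℕ} (B : Module.Basis (Fin h) L N) : od F = vp (detCoeff B F) := by
  obtain rfl : h = Module.finrank L N := by rw [Module.finrank_eq_card_basis B, Fintype.card_fin]
  have e := detCoeff_basis (Module.finBasis L N) B F
  have hC : ((Module.finBasis L N).toMatrix B).det ≠ 0 := by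
    rw [← Module.Basis.det_apply]; exact ((Module.finBasis L N).isUnit_det B).ne_zero
  have h1 := congrArg vp e
  rw [vp_mul (detCoeff_ne_zero hτ _ hF) (fun h0 => hC ((map_eq_zero τ).1 h0)),
    vp_mul hC (detCoeff_ne_zero hτ _ hF), tw_vp hτ hC] at h1
  rw [od]
  omega

include hτ in
lemma od_iter [Module.Finite L N] {F : N →ₛₗ[τ] N} (hF : Function.Injective F) (s : ℕ) :
    od (Isoc.iter F s) = s * od F := by
  induction s with
  | zero =>
    rw [od, detCoeff_one _ _ (fun x => rfl)]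
    simpa using vp_zpow (p := p) (k := k) 0
  | succ s ih =>
    rw [od, detCoeff_comp _ F (Isoc.iter F s) _ (fun x => Function.iterate_succ_apply' F s x)]
    have hs : Function.Injective (Isoc.iter F s) := hF.iterate s
    have hne := detCoeff_ne_zero (hτ.pow s) (Module.finBasis L N) hs
    rw [vp_mul (detCoeff_ne_zero hτ _ hF) (fun h0 => hne ((map_eq_zero τ).1 h0)), tw_vp hτ hne]
    simp only [od] at ih
    rw [ih]
    simp only [od]
    push_cast; ring

omit [PerfectRing k p] in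
lemma P_def (r : ℤ) (x : N) : P (p := p) (k := k) r x = (p : L) ^ r • x := rfl

lemma tw_injective {F : N →ₛₗ[τ] N} (hF : Function.Injective F) (r : ℤ) (s : ℕ) :
    Function.Injective (tw F r s) :=
  fun _ _ h => hF.iterate s (P_inj (p := p) (k := k) (-r) h)

include hτ in
lemma od_tw [Module.Finite L N] {F : N →ₛₗ[τ] N} (hF : Function.Injective F) (r : ℤ) (s : ℕ) :
    od (tw F r s) = s * od F - r * Module.finrank L N := by
  rw [od, tw, detCoeff_smul, vp_mul (pow_ne_zero _ (zpow_ne_zero _ pL_ne))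
    (detCoeff_ne_zero (hτ.pow s) _ (hF.iterate s))]
  have : vp (detCoeff (Module.finBasis L N) (Isoc.iter F s)) = s * od F := od_iter hτ hF s
  rw [this, ← zpow_natCast ((p : L) ^ (-r)), ← zpow_mul, vp_zpow]
  ring

include hτ in
/-- A lattice-preserving map has `od ≥ 0`. -/
lemma od_nonneg [Module.Finite L N] {F : N →ₛₗ[τ] N} (hF : Function.Injective F)
    {M : Submodule W N} (hM : M.IsLattice L) (hmap : Set.MapsTo F M M) : 0 ≤ od F := by
  obtain ⟨B, hB⟩ := exists_basis hM
  rw [od_eq hτ hF B, ← isInt_iff_vp (detCoeff_ne_zero hτ B hF)]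
  have hBM : ∀ j, B j ∈ M := fun j => (hB _).2 fun i => by
    rw [B.repr_self, Finsupp.single_apply]
    split_ifs
    · exact ⟨1, (map_one _).symm⟩
    · exact ⟨0, (map_zero _).symm⟩
  choose A hA using fun i j => (hB _).1 (hmap (hBM j)) i
  refine ⟨(Matrix.of A).det, ?_⟩
  rw [detCoeff, RingHom.map_det]
  congr 1
  ext i j
  simp [hA]

include hτ in
/-- It is surjective on the lattice exactly when `od = 0`. -/
lemma image_eq_iff [Module.Finite L N] {F : N →ₛₗ[τ] N} (hF : Function.Injective F)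
    {M : Submodule W N} (hM : M.IsLattice L) (hmap : Set.MapsTo F M M) :
    F '' M = M ↔ od F = 0 := by
  obtain ⟨B, hB⟩ := exists_basis hM
  rw [od_eq hτ hF B]
  have hBM : ∀ j, B j ∈ M := fun j => (hB _).2 fun i => by
    rw [B.repr_self, Finsupp.single_apply]
    split_ifs
    · exact ⟨1, (map_one _).symm⟩
    · exact ⟨0, (map_zero _).symm⟩
  choose A hA using fun i j => (hB _).1 (hmap (hBM j)) i
  have hdet : detCoeff B F = ι (Matrix.of A).det := by
    rw [detCoeff, RingHom.map_det]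
    congr 1
    ext i j
    simp [hA]
  constructor
  · intro h
    choose X hX1 hX2 using fun j => h.ge (hBM j)
    choose w hw using fun i j => (hB _).1 (hX1 j) i
    choose w' hw' using fun i j => hτ.pres (w i j)
    have h1 : (Matrix.of A) * (Matrix.of w') = 1 := by
      refine Matrix.ext fun i j => ?_
      apply ι_inj
      simp only [Matrix.mul_apply, Matrix.of_apply, map_sum, map_mul, ← hA, ← hw', ← hw]
      rw [← repr_map, hX2, B.repr_self, Finsupp.single_apply, Matrix.one_apply]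
      split_ifs <;> simp_all
    have hu : IsUnit (Matrix.of A).det := by
      apply IsUnit.of_mul_eq_one (Matrix.of w').det
      rw [← Matrix.det_mul, h1, Matrix.det_one]
    exact vp_eq ⟨hu.unit, by rw [hdet]; simp⟩
  · intro h0
    obtain ⟨u, hu⟩ := vp_zero_unit (detCoeff_ne_zero hτ B hF) h0
    rw [hdet] at hu
    have hunit : IsUnit (Matrix.of A).det := by rw [ι_inj hu]; exact u.isUnit
    refine Set.eq_of_subset_of_subset (Set.mapsTo_iff_image_subset.1 hmap) fun y hy => ?_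
    choose wy hwy using (hB y).1 hy
    set x' := ((Matrix.of A)⁻¹).mulVec wy
    choose x hx using fun j => hτ.surjW (x' j)
    refine ⟨∑ j, ι (x j) • B j, (hB _).2 fun i => ⟨x i, by
      rw [B.repr_sum_self]⟩, ?_⟩
    apply B.repr.injective
    ext i
    rw [repr_map, B.repr_sum_self, hwy]
    simp only [hx, hA, ← map_mul, ← map_sum]
    congr 1
    have h2 : (Matrix.of A).mulVec x' = wy := by
      rw [Matrix.mulVec_mulVec, Matrix.mul_nonsing_inv _ hunit, Matrix.one_mulVec]
    exact congrFun h2 i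

end LeadIsoc
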