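import Groth.Agent.Lead.Isoc.AlgClosed

/-! The Dieudonné–Manin classification. -/

noncomputable section

open scoped Pointwise
open Isoc

universe u v

namespace LeadIsoc

variable {p : ℕ} [Fact p.Prime] {k : Type u} [Field k] [CharP k p] [PerfectRing k p] [IsAlgClosed k]

local notation "W" => WittVector p k
local notation "L" => FractionRing (WittVector p k)

variable {N : Type v} [AddCommGroup N] [Module (WittVector p k) N] [Module (FractionRing (WittVector p k)) N]
  [IsScalarTower (WittVector p k) (FractionRing (WittVector p k)) N]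
  [Module.Finite (FractionRing (WittVector p k)) N]
variable {τ : FractionRing (WittVector p k) →+* FractionRing (WittVector p k)} (hτ : Tw τ)

include hτ in
/-- A nonzero isocrystal contains a standard one. -/
theorem exists_std (hm : Moves τ) {F : N →ₛₗ[τ] N} (hF : Function.Injective F) [Nontrivial N] :
    ∃ (d : ℤ) (h : ℕ) (φ : (Fin h → L) →ₗ[L] N), 0 < h ∧ Int.gcd d h = 1 ∧ Function.Injective φ ∧
      ∀ x, φ (stdIsoc τ d h x) = F (φ x) := by
  classical
  obtain ⟨μ, hμ⟩ : ∃ μ, slopePart F μ ≠ ⊥ := by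
    by_contra hc
    push_neg at hc
    have := slope_iSup hτ hF
    simp [hc] at this
  obtain ⟨hst, hpure⟩ := slopePart_mem (F := F) hτ μ
  haveI : Nontrivial (slopePart F μ) := Submodule.nontrivial_iff_ne_bot.2 hμ
  obtain ⟨M, r, s, hs, hrs, hfg, hsp, him⟩ := (pure_restrict_iff hst μ).2 hpure
  set F₁ := F.restrict hst
  have hF₁ : Function.Injective F₁ := fun a b e => Subtype.ext (hF (congrArg Subtype.val e))
  set d := μ.num
  set h := μ.den
  have hh : 0 < h := μ.den_pos
  have hrh : r * (h : ℤ) = d * s := by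
    have hs' : (s : ℚ) ≠ 0 := by exact_mod_cast hs.ne'
    have : (r : ℚ) / s = (d : ℚ) / h := by rw [hrs, μ.num_div_den]
    rw [div_eq_div_iff hs' (by exact_mod_cast hh.ne')] at this
    exact_mod_cast this
  set H := tw F₁ d h
  have hH : Function.Injective H := tw_injective hF₁ d h
  have hHs : H^[s] '' (M : Set (slopePart F μ)) = M := by
    conv_rhs => rw [← twMul_image him h]
    refine Set.image_congr fun x _ => ?_
    rw [tw_iterate, tw_apply, hrh, mul_comm s h]
  let I : ℕ → Submodule W (slopePart F μ) := fun i => img ((hτ.pow h).pow i) (Isoc.iter H i) M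
  have hper : ∀ i, I (i + s) = I i := by
    intro i
    apply SetLike.coe_injective
    show H^[i + s] '' _ = H^[i] '' _
    rw [Function.iterate_add, Set.image_comp, hHs]
  have hI : ∀ i, I i ≤ ⨆ j : Fin s, I j := by
    intro i
    induction i using Nat.strong_induction_on with
    | _ i ih =>
      by_cases hi : i < s
      · exact le_iSup (fun j : Fin s => I j) ⟨i, hi⟩
      · rw [show i = (i - s) + s by omega, hper]
        exact ih _ (by omega)
  have hA : Auto H (⨆ j : Fin s, I j) := by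
    refine ⟨hH, ⟨Submodule.fg_iSup _ fun j => ?_, ?_⟩, ?_⟩
    · obtain ⟨X, hX, hXmem⟩ := fg_image ((hτ.pow h).pow j) (Isoc.iter H j) hfg
      haveI := isNoetherian_of_fg_of_noetherian X hX
      haveI : IsNoetherian W (I j) := isNoetherian_of_le (s := I j) (t := X) (by
        rintro _ ⟨x, hx, rfl⟩; exact hXmem x hx)
      exact Module.Finite.iff_fg.1 inferInstance
    · rw [eq_top_iff, ← hsp]
      refine Submodule.span_mono fun x hx => ?_
      exact hI 0 ⟨x, hx, rfl⟩
    · apply Set.eq_of_subset_of_subset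
      · rintro _ ⟨x, hx, rfl⟩
        rw [SetLike.mem_coe] at hx ⊢
        induction hx using Submodule.iSup_induction' with
        | mem j y hy =>
          obtain ⟨m, hm', rfl⟩ := hy
          exact hI (j + 1) ⟨m, hm', Function.iterate_succ_apply' H j m⟩
        | zero => simp
        | add a b _ _ ha hb => rw [map_add]; exact Submodule.add_mem _ ha hb
      · intro y hy
        have hle : (⨆ j : Fin s, I j) ≤ img (hτ.pow h) H (⨆ j : Fin s, I j) := by
          refine iSup_le fun j => ?_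
          rw [← hper j]
          rintro _ ⟨m, hm', rfl⟩
          refine ⟨H^[(j : ℕ) + s - 1] m, hI _ ⟨m, hm', rfl⟩, ?_⟩
          rw [← Function.iterate_succ_apply' H, show ((j : ℕ) + s - 1).succ = (j : ℕ) + s by omega]
          rfl
        exact hle hy
  obtain ⟨v, hv, hv'⟩ := (lift (hτ.pow h) (hm.pow hh) hA).2 inferInstance
  have hvN : F^[h] (v : N) = P (p := p) (k := k) d (v : N) := by
    have e : tw F d h (v : N) = v := by rw [← coe_tw_restrict hst d h v]; exact congrArg Subtype.val hv'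
    rw [tw_apply] at e
    conv_rhs => rw [← e]
    rw [P_P, add_neg_cancel, P_zero]
  let φ : (Fin h → L) →ₗ[L] N := Fintype.linearCombination L fun i : Fin h => F^[(i : ℕ)] (v : N)
  have hφ : ∀ x, φ x = ∑ i, x i • F^[(i : ℕ)] (v : N) := fun x => Fintype.linearCombination_apply _ _ _
  have hint : ∀ x, φ (stdIsoc τ d h x) = F (φ x) := by
    intro x
    rw [hφ, hφ, map_sum, ← Equiv.sum_comp (finRotate h)]
    refine Finset.sum_congr rfl fun i _ => ?_
    rw [map_smulₛₗ, ← Function.iterate_succ_apply' F, stdIsoc_apply, Equiv.symm_apply_apply]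
    have hv2 : ((finRotate h i : Fin h) : ℕ) = if (i : ℕ) + 1 = h then 0 else (i : ℕ) + 1 := by
      have e := finRotate_symm_val (finRotate h i)
      rw [Equiv.symm_apply_apply] at e
      have := (finRotate h i).2
      have := i.2
      split_ifs at e ⊢ <;> omega
    rw [hv2]
    by_cases h1 : (i : ℕ) + 1 = h
    · rw [if_pos h1, if_pos rfl, show (i : ℕ).succ = h from h1, hvN, Function.iterate_zero_apply, P, smul_smul, mul_comm]
    · rw [if_neg h1, if_neg (Nat.succ_ne_zero _), one_mul]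
  refine ⟨d, h, φ, hh, ?_, ?_, hint⟩
  · rw [Int.gcd_eq_natAbs, Int.natAbs_natCast]; exact μ.reduced
  · rw [← LinearMap.ker_eq_bot]
    refine (std_simple hτ d h hh ?_ (LinearMap.ker φ) fun x hx => ?_).resolve_right fun e => ?_
    · rw [Int.gcd_eq_natAbs, Int.natAbs_natCast]; exact μ.reduced
    · rw [LinearMap.mem_ker] at hx ⊢; rw [hint, hx, map_zero]
    · have h0 : φ (Pi.single (⟨0, hh⟩ : Fin h) 1) = 0 := LinearMap.mem_ker.1 (e ▸ Submodule.mem_top)
      rw [Fintype.linearCombination_apply_single, one_smul] at h0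
      exact hv (Subtype.ext h0)

include hτ in
/-- Every stable subspace is a sum of standard isocrystals. -/
theorem decompose (hm : Moves τ) {F : N →ₛₗ[τ] N} (hF : Function.Bijective F) :
    ∀ (n : ℕ) (Q : Submodule L N), (∀ x ∈ Q, F x ∈ Q) → Module.finrank L Q = n →
      ∃ (t : ℕ) (d : Fin t → ℤ) (h : Fin t → ℕ) (φ : (i : Fin t) → (Fin (h i) → L) →ₗ[L] N),
        (∀ i, 0 < h i ∧ Int.gcd (d i) (h i) = 1) ∧
        (∀ i x, φ i (stdIsoc τ (d i) (h i) x) = F (φ i x)) ∧
        Function.Injective (LinearMap.lsum L (fun i : Fin t => Fin (h i) → L) L φ) ∧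
        LinearMap.range (LinearMap.lsum L (fun i : Fin t => Fin (h i) → L) L φ) = Q := by
  classical
  intro n
  induction n using Nat.strong_induction_on with
  | _ n ih =>
    intro Q hQ hn
    by_cases hQ0 : Q = ⊥
    · subst hQ0
      refine ⟨0, Fin.elim0, Fin.elim0, fun i => i.elim0, fun i => i.elim0, fun i => i.elim0, fun a b _ => funext fun i => i.elim0, ?_⟩
      rw [eq_bot_iff]
      rintro _ ⟨x, rfl⟩
      simp
    haveI : Nontrivial Q := Submodule.nontrivial_iff_ne_bot.2 hQ0
    obtain ⟨d₀, h₀, φ₀, hh₀, hg₀, hinj₀, hint₀⟩ :=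
      exists_std hτ hm (F := F.restrict hQ) (fun a b e => Subtype.ext (hF.1 (congrArg Subtype.val e)))
    set ψ := Q.subtype.comp φ₀
    have hψi : Function.Injective ψ := Subtype.val_injective.comp hinj₀
    have hψ : ∀ x, ψ (stdIsoc τ d₀ h₀ x) = F (ψ x) := fun x => congrArg Subtype.val (hint₀ x)
    set S := LinearMap.range ψ
    have hS : ∀ x ∈ S, F x ∈ S := by
      rintro _ ⟨x, rfl⟩; exact ⟨_, hψ x⟩
    have hSQ : S ≤ Q := by rintro _ ⟨x, rfl⟩; exact (φ₀ x).2
    obtain ⟨C, hC, hSC⟩ := stable_compl hτ hm hF S hS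
    have hCQ : ∀ x ∈ C ⊓ Q, F x ∈ C ⊓ Q := fun x hx => ⟨hC x hx.1, hQ x hx.2⟩
    have hsup : S ⊔ (C ⊓ Q) = Q := by
      rw [← sup_inf_assoc_of_le C hSQ, hSC.sup_eq_top, top_inf_eq]
    have hlt : Module.finrank L (C ⊓ Q : Submodule L N) < n := by
      rw [← hn]
      refine Submodule.finrank_lt_finrank_of_lt (lt_of_le_of_ne inf_le_right fun e => ?_)
      obtain ⟨x, hx⟩ : ∃ x : Fin h₀ → L, x ≠ 0 := ⟨Pi.single ⟨0, hh₀⟩ 1, by simp⟩
      have h1 : ψ x ∈ C := (e.symm ▸ hSQ ⟨x, rfl⟩ : ψ x ∈ C ⊓ Q).1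
      exact hx (hψi ((Submodule.disjoint_def.1 hSC.disjoint _ ⟨x, rfl⟩ h1).trans (map_zero ψ).symm))
    obtain ⟨t, d, h, φ, hdh, hint, hinj, hrange⟩ := ih _ hlt (C ⊓ Q) hCQ rfl
    refine ⟨t + 1, Fin.cons d₀ d, Fin.cons h₀ h, Fin.cons ψ φ, Fin.cons ⟨hh₀, hg₀⟩ hdh,
      Fin.cons hψ hint, ?_, ?_⟩
    · intro a b hab
      simp only [LinearMap.lsum_apply, Fin.sum_univ_succ, LinearMap.add_apply, LinearMap.sum_apply, LinearMap.comp_apply,
        LinearMap.proj_apply, Fin.cons_zero, Fin.cons_succ] at hab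
      set A := LinearMap.lsum L (fun i : Fin t => Fin (h i) → L) L φ with hA
      have hA' : ∀ c : (i : Fin t) → Fin (h i) → L, ∑ i, φ i (c i) = A c := fun c => by
        simp [hA, LinearMap.lsum_apply]
      replace hab : ψ (a 0) + A (fun i => a i.succ) = ψ (b 0) + A (fun i => b i.succ) := by
        rw [← hA', ← hA']; exact hab
      have e : ψ (a 0) - ψ (b 0) = A (fun i => b i.succ) - A (fun i => a i.succ) := by
        rw [sub_eq_sub_iff_add_eq_add, hab, add_comm]
      have h0 : ψ (a 0) - ψ (b 0) = 0 := Submodule.disjoint_def.1 hSC.disjoint _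
        (S.sub_mem ⟨_, rfl⟩ ⟨_, rfl⟩) (e ▸ (hrange.le (LinearMap.mem_range.2 ⟨_, map_sub A _ _⟩)).1)
      rw [h0] at e
      have h1 := hψi (sub_eq_zero.1 h0)
      have h2 := hinj (sub_eq_zero.1 e.symm)
      funext i
      induction i using Fin.cases with
      | zero => exact h1
      | succ j => exact (congrFun h2 j).symm
    · apply le_antisymm
      · rintro _ ⟨x, rfl⟩
        simp only [LinearMap.lsum_apply, LinearMap.sum_apply, LinearMap.comp_apply, LinearMap.proj_apply,
          Fin.sum_univ_succ, Fin.cons_zero, Fin.cons_succ]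
        refine Q.add_mem (hSQ ⟨_, rfl⟩) (hrange.le ⟨fun i => x i.succ, ?_⟩).2
        simp [LinearMap.lsum_apply]
        rfl
      · intro y hy
        obtain ⟨a, ⟨x, rfl⟩, c, hc, rfl⟩ := Submodule.mem_sup.1 (hsup.symm ▸ hy)
        obtain ⟨z, rfl⟩ := hrange.ge hc
        refine ⟨Fin.cons x z, ?_⟩
        simp [LinearMap.lsum_apply, Fin.sum_univ_succ]
        rfl

include hτ in
theorem classify (hm : Moves τ) {F : N →ₛₗ[τ] N} (hF : Function.Bijective F) :
    ∃ (t : ℕ) (d : Fin t → ℤ) (h : Fin t → ℕ)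
      (e : N ≃ₗ[L] ((i : Fin t) → (Fin (h i) → L))),
      (∀ i, 0 < h i ∧ Int.gcd (d i) (h i) = 1) ∧
      (∀ (x : N) (i : Fin t), e (F x) i = stdIsoc τ (d i) (h i) (e x i)) ∧
      ∀ μ : ℚ, newtonMult F μ = ∑ i : Fin t, (if ((d i : ℚ) / (h i : ℚ)) = μ then h i else 0) := by
  classical
  obtain ⟨t, d, h, φ, hdh, hint, hinj, hrange⟩ := decompose hτ hm hF _ ⊤ (fun _ _ => trivial) rfl
  set A := LinearMap.lsum L (fun i : Fin t => Fin (h i) → L) L φ with hAdef
  have hA : ∀ y, A y = ∑ i, φ i (y i) := fun y => by simp [hAdef, LinearMap.lsum_apply]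
  let e := (LinearEquiv.ofBijective A ⟨hinj, LinearMap.range_eq_top.1 hrange⟩).symm
  have hAe : ∀ x, A (e x) = x := fun x => LinearEquiv.apply_symm_apply (LinearEquiv.ofBijective A _) x
  have he : ∀ (x : N) (i : Fin t), e (F x) i = stdIsoc τ (d i) (h i) (e x i) := by
    intro x i
    refine congrFun (hinj (a₁ := e (F x)) (a₂ := fun i => stdIsoc τ (d i) (h i) (e x i)) ?_) i
    rw [hAe, hA]
    simp only [hint, ← map_sum, ← hA, hAe]
  refine ⟨t, d, h, e, hdh, he, fun μ => ?_⟩
  set I := {i : Fin t // (d i : ℚ) / (h i : ℚ) = μ}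
  let g : slopePart F μ →ₗ[L] ((i : I) → (Fin (h i.1) → L)) :=
    LinearMap.pi fun i => ((LinearMap.proj i.1).comp e.toLinearMap).comp (slopePart F μ).subtype
  have hoff : ∀ x ∈ slopePart F μ, ∀ i, (d i : ℚ) / (h i : ℚ) ≠ μ → e x i = 0 := by
    intro x hx i hi
    exact hom_eq_zero hτ (std_injective (d i) (h i)) (Ne.symm hi) (slopePart_mem (F := F) hτ μ).2
      (std_pure hτ (d i) (h i) (hdh i).1) ((LinearMap.proj i).comp e.toLinearMap)
      (fun y _ => he y i) (slopePart_mem (F := F) hτ μ).1 x hx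
  have hin : ∀ i, (d i : ℚ) / (h i : ℚ) = μ → ∀ y, φ i y ∈ slopePart F μ := by
    intro i hi y
    refine le_slopePart hτ (Q := (⊤ : Submodule L (Fin (h i) → L)).map (φ i)) ⟨?_, ?_⟩ ⟨y, trivial, rfl⟩
    · rintro _ ⟨z, -, rfl⟩; exact ⟨_, trivial, hint i z⟩
    · rw [← hi]; exact pure_map (φ i) (hint i) (std_pure hτ (d i) (h i) (hdh i).1)
  have hg : Function.Bijective g := by
    constructor
    · rw [injective_iff_map_eq_zero]
      intro x hx
      apply Subtype.ext
      apply e.injective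
      rw [Submodule.coe_zero, map_zero]
      funext i
      by_cases hi : (d i : ℚ) / (h i : ℚ) = μ
      · exact congrFun hx ⟨i, hi⟩
      · exact hoff x x.2 i hi
    · intro y
      let z : (i : Fin t) → Fin (h i) → L := fun i => if hi : (d i : ℚ) / (h i : ℚ) = μ then y ⟨i, hi⟩ else 0
      have hz : A z ∈ slopePart F μ := by
        rw [hA]
        refine Submodule.sum_mem _ fun i _ => ?_
        by_cases hi : (d i : ℚ) / (h i : ℚ) = μ
        · exact hin i hi _
        · simp [z, hi]
      refine ⟨⟨A z, hz⟩, funext fun i => ?_⟩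
      show e (A z) i.1 = y i
      rw [show e (A z) = z from LinearEquiv.symm_apply_apply (LinearEquiv.ofBijective A _) z]
      exact dif_pos i.2
  rw [newtonMult, (LinearEquiv.ofBijective g hg).finrank_eq, Module.finrank_pi_fintype]
  simp only [Module.finrank_fin_fun]
  rw [← Finset.sum_filter]
  exact (Finset.sum_subtype _ (by simp) (fun i => h i)).symm

end LeadIsoc
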