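import Mathlib

/-! Bijective `q`-power semilinear maps over an algebraically closed field: Lang's lemma, elementary form. -/

noncomputable section

open Polynomial

namespace LeadIsoc

variable {k : Type*} [Field k]

/-- The elimination polynomials. -/
def elimP (a : ℕ → k) (c : k) (q : ℕ) : ℕ → k[X]
  | 0 => C (a 0) * X ^ q - C c
  | i + 1 => elimP a c q i ^ q + C (a (i + 1)) * X ^ q

lemma elimP_natDegree (a : ℕ → k) (c : k) {q : ℕ} (hq : 2 ≤ q) (ha : a 0 ≠ 0) :
    ∀ i, (elimP a c q i).natDegree = q ^ (i + 1) := by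
  intro i
  induction i with
  | zero => rw [elimP, natDegree_sub_C, natDegree_C_mul_X_pow _ _ ha, zero_add, pow_one]
  | succ i ih =>
    rw [elimP, natDegree_add_eq_left_of_natDegree_lt]
    · rw [natDegree_pow, ih, ← pow_succ']
    · refine lt_of_le_of_lt (natDegree_C_mul_X_pow_le _ _) ?_
      rw [natDegree_pow, ih, ← pow_succ']
      calc q = q ^ 1 := (pow_one q).symm
        _ < q ^ (i + 1 + 1) := Nat.pow_lt_pow_right (by omega) (by omega)

lemma elimP_derivative (a : ℕ → k) (c : k) {q : ℕ} (hq : (q : k) = 0) :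
    ∀ i, derivative (elimP a c q i) = 0 := by
  intro i
  cases i <;> simp [elimP, derivative_pow, hq]

lemma elimP_eval_zero (a : ℕ → k) {q : ℕ} (hq : q ≠ 0) : ∀ i, (elimP a 0 q i).eval 0 = 0 := by
  intro i
  induction i with
  | zero => simp [elimP, zero_pow hq]
  | succ i ih => simp [elimP, zero_pow hq, ih]

variable [IsAlgClosed k]

lemma exists_root (a : ℕ → k) (c : k) {q : ℕ} (hq : 2 ≤ q) (hq0 : (q : k) = 0) (ha : a 0 ≠ 0) (n : ℕ) :
    ∃ z, (elimP a c q n).eval z = z ∧ (c = 0 → z ≠ 0) := by
  have hdeg : (elimP a c q n - X).natDegree = q ^ (n + 1) := by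
    rw [natDegree_sub_eq_left_of_natDegree_lt, elimP_natDegree a c hq ha]
    rw [natDegree_X, elimP_natDegree a c hq ha]
    exact one_lt_pow₀ (by omega) (by omega)
  have hpos : 1 < q ^ (n + 1) := one_lt_pow₀ (by omega) (by omega)
  by_cases hc : c = 0
  · subst hc
    have h0 : (elimP a 0 q n - X).coeff 0 = 0 := by
      rw [coeff_zero_eq_eval_zero, eval_sub, eval_X, elimP_eval_zero a (by omega), sub_zero]
    obtain ⟨R, hR⟩ := X_dvd_iff.2 h0
    have hR0 : R.eval 0 = -1 := by
      have h := congrArg (fun P : k[X] => (derivative P).eval 0) hR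
      simp [derivative_mul, elimP_derivative a (0 : k) hq0] at h
      exact h.symm
    have hRne : R ≠ 0 := fun e => by simp [e] at hR0
    have hRdeg : R.degree ≠ 0 := by
      intro e
      have h1 := natDegree_eq_of_degree_eq_some (n := 0) (by simpa using e)
      rw [hR, natDegree_mul X_ne_zero hRne, natDegree_X, h1] at hdeg
      omega
    obtain ⟨z, hz⟩ := IsAlgClosed.exists_root R hRdeg
    refine ⟨z, ?_, fun _ e => ?_⟩
    · have h := congrArg (fun P : k[X] => P.eval z) hR
      simp [hz.eq_zero] at h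
      exact sub_eq_zero.1 h
    · subst e
      rw [hz.eq_zero] at hR0
      simp at hR0
  · obtain ⟨z, hz⟩ := IsAlgClosed.exists_root (elimP a c q n - X) (by
      intro e
      have := natDegree_eq_of_degree_eq_some (n := 0) (by simpa using e)
      omega)
    refine ⟨z, ?_, fun h => absurd h hc⟩
    simpa [sub_eq_zero] using hz.eq_zero

variable {V : Type*} [AddCommGroup V] [Module k V] [FiniteDimensional k V]

/-- Both the inhomogeneous and the homogeneous equation `f w - w = c • v`. -/
theorem cyclic_solve (f : V →+ V) (hf : Function.Injective f) {q : ℕ} (hq : 2 ≤ q) (hq0 : (q : k) = 0)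
    (hsm : ∀ (c : k) (x : V), f (c • x) = c ^ q • f x) {v : V} (hv : v ≠ 0) (c : k) :
    ∃ w, f w - w = c • v ∧ (c = 0 → w ≠ 0) := by
  classical
  set e : ℕ → V := fun i => f^[i] v with he
  have hex : ∃ m, e m ∈ Submodule.span k (e '' Set.Iio m) := by
    by_contra hc'
    push_neg at hc'
    have hli : ∀ m, LinearIndependent k (fun i : Fin m => e i) := by
      intro m
      induction m with
      | zero => exact linearIndependent_empty_type
      | succ m ih =>
        rw [linearIndependent_fin_succ']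
        refine ⟨ih, ?_⟩
        intro h
        apply hc' m
        refine Submodule.span_mono ?_ h
        rintro _ ⟨i, rfl⟩
        exact ⟨i, i.2, rfl⟩
    have := (hli (Module.finrank k V + 1)).fintype_card_le_finrank
    simp at this
  have hmin : ∀ j, j < Nat.find hex → e j ∉ Submodule.span k (e '' Set.Iio j) := fun j hj => Nat.find_min hex hj
  have hli : ∀ m, m ≤ Nat.find hex → LinearIndependent k (fun i : Fin m => e i) := by
    intro m
    induction m with
    | zero => exact fun _ => linearIndependent_empty_type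
    | succ m ih =>
      intro hm
      rw [linearIndependent_fin_succ']
      refine ⟨ih (by omega), ?_⟩
      intro h
      apply hmin m (by omega)
      refine Submodule.span_mono ?_ h
      rintro _ ⟨i, rfl⟩
      exact ⟨i, i.2, rfl⟩
  obtain ⟨n, hn⟩ : ∃ n, Nat.find hex = n + 1 := by
    refine ⟨Nat.find hex - 1, ?_⟩
    have : Nat.find hex ≠ 0 := by
      intro h0
      have := Nat.find_spec hex
      rw [h0] at this
      simp [he] at this
      exact hv this
    omega
  obtain ⟨a, ha⟩ : ∃ a : ℕ → k, e (n + 1) = ∑ i ∈ Finset.range (n + 1), a i • e i := by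
    have h := Nat.find_spec hex
    rw [hn] at h
    have h' : e (n + 1) ∈ Submodule.span k (Set.range fun i : Fin (n + 1) => e i) := by
      refine Submodule.span_mono ?_ h
      rintro _ ⟨i, hi, rfl⟩
      exact ⟨⟨i, hi⟩, rfl⟩
    obtain ⟨b, hb⟩ := (Submodule.mem_span_range_iff_exists_fun k).1 h'
    refine ⟨fun i => if h : i < n + 1 then b ⟨i, h⟩ else 0, ?_⟩
    rw [← hb, ← Fin.sum_univ_eq_sum_range (fun i => (if h : i < n + 1 then b ⟨i, h⟩ else 0) • e i)]
    exact Finset.sum_congr rfl fun i _ => by simp [i.2]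
  have he1 : ∀ i, f (e i) = e (i + 1) := fun i => (Function.iterate_succ_apply' f i v).symm
  have ha0 : a 0 ≠ 0 := by
    intro h0
    choose r hr using fun i => IsAlgClosed.exists_pow_nat_eq (a i) (show 0 < q by omega)
    apply hmin n (by omega)
    have h1 : f (e n) = f (∑ i ∈ Finset.range n, r (i + 1) • e i) := by
      rw [he1, ha, Finset.sum_range_succ', h0, zero_smul, add_zero, map_sum]
      exact Finset.sum_congr rfl fun i _ => by rw [hsm, hr, he1]
    rw [hf h1]
    exact Submodule.sum_mem _ fun i hi => Submodule.smul_mem _ _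
      (Submodule.subset_span ⟨i, Finset.mem_range.1 hi, rfl⟩)
  obtain ⟨z, hz, hz0⟩ := exists_root a c hq hq0 ha0 n
  set x : ℕ → k := fun i => (elimP a c q i).eval z with hx
  refine ⟨∑ i ∈ Finset.range (n + 1), x i • e i, ?_, fun hc hw => ?_⟩
  · have h1 : f (∑ i ∈ Finset.range (n + 1), x i • e i) =
        ∑ i ∈ Finset.range n, (x i ^ q) • e (i + 1) + z ^ q • e (n + 1) := by
      rw [map_sum, Finset.sum_range_succ]
      simp only [hsm, he1]
      congr 2
      simp only [hx, hz]
    rw [h1, ha, Finset.smul_sum, Finset.sum_range_succ' (fun i => x i • e i),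
      Finset.sum_range_succ' (fun i => z ^ q • a i • e i)]
    have h2 : ∀ i, x (i + 1) = x i ^ q + a (i + 1) * z ^ q := fun i => by simp [hx, elimP]
    have h3 : x 0 = a 0 * z ^ q - c := by simp [hx, elimP]
    simp only [h2, h3, add_smul, sub_smul, Finset.sum_add_distrib, mul_smul, smul_comm (z ^ q)]
    show _ = c • e 0
    abel
  · have hlin := hli (n + 1) (by omega)
    rw [Fintype.linearIndependent_iff] at hlin
    have := hlin (fun i => x i) (by rw [← hw]; exact Fin.sum_univ_eq_sum_range (fun i => x i • e i) _) (Fin.last n)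
    simp only [Fin.val_last, hx, hz] at this
    exact hz0 hc this

theorem res_solve (f : V →+ V) (hf : Function.Injective f) {q : ℕ} (hq : 2 ≤ q) (hq0 : (q : k) = 0)
    (hsm : ∀ (c : k) (x : V), f (c • x) = c ^ q • f x) (v : V) : ∃ w, f w - w = v := by
  by_cases hv : v = 0
  · exact ⟨0, by simp [hv]⟩
  obtain ⟨w, hw, -⟩ := cyclic_solve f hf hq hq0 hsm hv (1 : k)
  exact ⟨w, by rw [hw, one_smul]⟩

theorem res_fixed (f : V →+ V) (hf : Function.Injective f) {q : ℕ} (hq : 2 ≤ q) (hq0 : (q : k) = 0)
    (hsm : ∀ (c : k) (x : V), f (c • x) = c ^ q • f x) [Nontrivial V] : ∃ w : V, w ≠ 0 ∧ f w = w := by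
  obtain ⟨v, hv⟩ := exists_ne (0 : V)
  obtain ⟨w, hw, hw0⟩ := cyclic_solve f hf hq hq0 hsm hv (0 : k)
  exact ⟨w, hw0 rfl, sub_eq_zero.1 (by rw [hw, zero_smul])⟩

end LeadIsoc
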