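import Groth.Agent.Lead.Isoc.Split

/-! Newton slopes over a finite field from the characteristic polynomial of `F^m`. -/

noncomputable section

open scoped Pointwise
open Isoc Polynomial

universe u v w

namespace LeadIsoc

variable {p : ℕ} [Fact p.Prime] {k : Type u} [Field k] [CharP k p] [PerfectRing k p]

local notation "W" => WittVector p k
local notation "L" => FractionRing (WittVector p k)
local notation "ι" => algebraMap (WittVector p k) (FractionRing (WittVector p k))

variable {Ω : Type w} [Field Ω] [IsAlgClosed Ω] [Algebra (WittVector p k) Ω] [Algebra (FractionRing (WittVector p k)) Ω]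
  [IsScalarTower (WittVector p k) (FractionRing (WittVector p k)) Ω]

lemma eigen_inv {n : ℕ} (A A' : Matrix (Fin n) (Fin n) W) (h : A' * A = 1) {β : Ω} {v : Fin n → Ω}
    (hv : v ≠ 0) (he : (A.map (algebraMap W Ω)).mulVec v = β • v) : IsIntegral W β ∧ IsIntegral W β⁻¹ ∧ β ≠ 0 := by
  have key : ∀ (B : Matrix (Fin n) (Fin n) W) (b : Ω), (B.map (algebraMap W Ω)).mulVec v = b • v → IsIntegral W b := by
    intro B b hb
    refine ⟨B.charpoly, B.charpoly_monic, ?_⟩
    rw [← aeval_def, ← eval_map_algebraMap, ← Matrix.charpoly_map, Matrix.eval_charpoly]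
    apply Matrix.exists_mulVec_eq_zero_iff.1
    refine ⟨v, hv, ?_⟩
    rw [Matrix.sub_mulVec, Matrix.scalar_apply, hb]
    ext i
    simp [Matrix.mulVec_diagonal]
  have h1 : (A'.map (algebraMap W Ω)).mulVec ((A.map (algebraMap W Ω)).mulVec v) = v := by
    rw [Matrix.mulVec_mulVec, ← Matrix.map_mul, h, Matrix.map_one _ (map_zero _) (map_one _), Matrix.one_mulVec]
  rw [he, Matrix.mulVec_smul] at h1
  have hβ : β ≠ 0 := by rintro rfl; exact hv (by simpa using h1.symm)
  refine ⟨key A β he, key A' β⁻¹ ?_, hβ⟩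
  conv_rhs => rw [← h1]
  rw [smul_smul, inv_mul_cancel₀ hβ, one_smul]

lemma not_unit_p {e : ℤ} (he : e ≠ 0) (h1 : IsIntegral W ((algebraMap L Ω (p : L)) ^ e))
    (h2 : IsIntegral W ((algebraMap L Ω (p : L)) ^ e)⁻¹) : False := by
  have hint : ∀ c : L, IsIntegral W (algebraMap L Ω c) → IsInt c := fun c hc => by
    obtain ⟨w, hw⟩ := IsIntegrallyClosed.isIntegral_iff.1
      ((isIntegral_algHom_iff (IsScalarTower.toAlgHom W L Ω) (algebraMap L Ω).injective).1 hc)
    exact ⟨w, hw.symm⟩
  rw [← map_zpow₀] at h1 h2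
  rw [← map_inv₀, ← zpow_neg] at h2
  have a := (ordP_int (ordP_p (p := p) (k := k) e)).1 (hint _ h1)
  have b := (ordP_int (ordP_p (p := p) (k := k) (-e))).1 (hint _ h2)
  omega

variable {N : Type v} [AddCommGroup N] [Module (WittVector p k) N] [Module (FractionRing (WittVector p k)) N]
  [IsScalarTower (WittVector p k) (FractionRing (WittVector p k)) N]
  [Module.Finite (FractionRing (WittVector p k)) N]
variable {τ : FractionRing (WittVector p k) →+* FractionRing (WittVector p k)}

omit [Module.Finite L N] in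
/-- Roots on a pure part. -/
theorem root_unit [Module.Finite L N] {F : N →ₛₗ[τ] N} {M : Submodule W N} (hM : M.IsLattice L) {r : ℤ}
    {s : ℕ} (him : tw F r s '' M = M) {m : ℕ} (π : N →ₗ[L] N) (hπ : ∀ x, π x = F^[m] x) {α : Ω}
    (hα : (π.charpoly.map (algebraMap L Ω)).IsRoot α) :
    IsIntegral W (α ^ s * (algebraMap L Ω (p : L)) ^ (-(r * m))) ∧
    IsIntegral W (α ^ s * (algebraMap L Ω (p : L)) ^ (-(r * m)))⁻¹ ∧
    α ^ s * (algebraMap L Ω (p : L)) ^ (-(r * m)) ≠ 0 := by
  classical
  obtain ⟨B, hB⟩ := exists_basis hM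
  set A := LinearMap.toMatrix B B π with hA
  rw [← LinearMap.charpoly_toMatrix π B, ← Matrix.charpoly_map, IsRoot, Matrix.eval_charpoly] at hα
  obtain ⟨v, hv, hv0⟩ := Matrix.exists_mulVec_eq_zero_iff.2 hα
  have he : (A.map (algebraMap L Ω)).mulVec v = α • v := by
    rw [Matrix.sub_mulVec, sub_eq_zero] at hv0
    rw [← hv0]
    ext i
    simp [Matrix.scalar_apply, Matrix.mulVec_diagonal]
  set c : L := (p : L) ^ (-(r * m)) with hc
  set T : N →ₗ[L] N := c • π ^ s with hT
  have hTtw : ∀ x, T x = (tw F r s)^[m] x := by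
    intro x
    rw [tw_iterate, hT, LinearMap.smul_apply, Module.End.pow_apply]
    show c • (⇑π)^[s] x = c • F^[s * m] x
    congr 1
    rw [mul_comm s m, Function.iterate_mul, show (⇑π) = F^[m] from funext hπ]
  have hTM : T '' M = M := by
    rw [show (⇑T) = (tw F r s)^[m] from funext hTtw]
    exact image_iterate him m
  have hBM : ∀ j, B j ∈ M := fun j => (hB _).2 fun i => by
    rw [B.repr_self, Finsupp.single_apply]
    split_ifs
    · exact ⟨1, (map_one _).symm⟩
    · exact ⟨0, (map_zero _).symm⟩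
  choose A₁ hA₁ using fun i j => (hB _).1 (hTM.le ⟨B j, hBM j, rfl⟩) i
  choose x hxM hxT using fun j => hTM.ge (hBM j)
  choose A₂ hA₂ using fun i j => (hB _).1 (hxM j) i
  have e1 : (Matrix.of A₁).map ι = c • A ^ s := by
    rw [hA, LinearMap.toMatrix_pow, ← map_smul]
    ext i j
    rw [LinearMap.toMatrix_apply, Matrix.map_apply, Matrix.of_apply, ← hA₁]
  set S := B.constr L x
  have e2 : (Matrix.of A₂).map ι = LinearMap.toMatrix B B S := by
    ext i j
    rw [LinearMap.toMatrix_apply, Matrix.map_apply, Matrix.of_apply, B.constr_basis, ← hA₂]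
  have e3 : Matrix.of A₂ * Matrix.of A₁ = 1 := by
    rw [mul_eq_one_comm]
    apply Matrix.map_injective ι_inj
    simp only
    rw [Matrix.map_mul, e2, e1, Matrix.map_one _ (map_zero _) (map_one _), hA, LinearMap.toMatrix_pow,
      ← map_smul, ← LinearMap.toMatrix_comp, show c • π ^ s = T from rfl,
      show T.comp S = LinearMap.id from B.ext fun j => by rw [LinearMap.comp_apply, B.constr_basis]; exact hxT j,
      LinearMap.toMatrix_id]
  refine eigen_inv _ _ e3 hv ?_
  have hmap : (Matrix.of A₁).map (algebraMap W Ω) = algebraMap L Ω c • (A.map (algebraMap L Ω)) ^ s := by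
    rw [IsScalarTower.algebraMap_eq W L Ω, RingHom.coe_comp, ← Matrix.map_map, e1,
      Matrix.map_smul' _ _ _ (map_mul (algebraMap L Ω)), ← RingHom.mapMatrix_apply, map_pow]
    rfl
  have hpow : ∀ j : ℕ, ((A.map (algebraMap L Ω)) ^ j).mulVec v = α ^ j • v := by
    intro j
    induction j with
    | zero => simp
    | succ j ih => rw [pow_succ', ← Matrix.mulVec_mulVec, ih, Matrix.mulVec_smul, he, smul_smul, ← pow_succ]
  rw [hmap, Matrix.smul_mulVec, hpow, smul_smul, hc, map_zpow₀, mul_comm]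

lemma charpoly_blockDiag {R : Type*} [CommRing R] {o : Type*} [Fintype o] [LinearOrder o] {n : o → Type*}
    [∀ i, Fintype (n i)] [∀ i, DecidableEq (n i)] (A : Matrix (Σ i, n i) (Σ i, n i) R)
    (h : ∀ a b, a.1 ≠ b.1 → A a b = 0) :
    A.charpoly = ∏ i, (Matrix.of fun x y => A ⟨i, x⟩ ⟨i, y⟩).charpoly := by
  rw [Matrix.charpoly, det_blockDiag _ (fun a b hab => by
    rw [Matrix.charmatrix_apply_ne _ _ _ (fun e => hab (congrArg Sigma.fst e)), h a b hab]; simp)]
  refine Finset.prod_congr rfl fun i _ => ?_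
  rw [Matrix.charpoly]
  congr 1
  ext x y : 2
  simp only [Matrix.of_apply, Matrix.charmatrix_apply, Matrix.diagonal_apply]
  congr 1
  by_cases hxy : x = y
  · subst hxy; simp
  · rw [if_neg hxy, if_neg (fun e => hxy (by simpa using e))]

variable (hτ : Tw τ)

open Classical in
include hτ in
theorem count_roots {F : N →ₛₗ[τ] N} (hF : Function.Injective F) {m : ℕ} (hm : m ≠ 0) (π : N →ₗ[L] N)
    (hπ : ∀ x, π x = F^[m] x) (μ : ℚ) :
    newtonMult F μ = Multiset.countP
        (fun α : Ω => IsIntegral W (α ^ μ.den * (algebraMap L Ω (p : L)) ^ (-(μ.num * (m : ℤ))))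
          ∧ IsIntegral W (α ^ μ.den * (algebraMap L Ω (p : L)) ^ (-(μ.num * (m : ℤ))))⁻¹)
        ((π.charpoly.map (algebraMap L Ω)).roots) := by
  classical
  have hfin : {μ : ℚ | slopePart F μ ≠ ⊥}.Finite :=
    WellFoundedGT.finite_ne_bot_of_iSupIndep (slope_indep hτ hF)
  set S := hfin.toFinset
  have hint' : DirectSum.IsInternal (fun μ : S => slopePart F μ) := by
    rw [DirectSum.isInternal_submodule_iff_iSupIndep_and_iSup_eq_top]
    refine ⟨(slope_indep hτ hF).comp Subtype.val_injective, ?_⟩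
    rw [eq_top_iff, ← slope_iSup hτ hF]
    refine iSup_le fun μ => ?_
    by_cases hμ : μ ∈ S
    · exact le_iSup (fun μ : S => slopePart F μ) ⟨μ, hμ⟩
    · simp only [S, Set.Finite.mem_toFinset, Set.mem_setOf_eq, not_not] at hμ
      rw [hμ]; exact bot_le
  have hst : ∀ ν : S, ∀ x ∈ slopePart F (ν : ℚ), F x ∈ slopePart F (ν : ℚ) := fun ν => (slopePart_mem hτ (ν : ℚ)).1
  have hstπ : ∀ ν : S, ∀ x ∈ slopePart F (ν : ℚ), π x ∈ slopePart F (ν : ℚ) := fun ν x hx => by
    rw [hπ]
    exact (show Set.MapsTo F (slopePart F (ν : ℚ)) (slopePart F (ν : ℚ)) from hst ν).iterate m hx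
  let b := hint'.collectedBasis fun ν : S => Module.finBasis L (slopePart F ν)
  have hprod : π.charpoly = ∏ ν : S, (π.restrict (hstπ ν)).charpoly := by
    rw [← LinearMap.charpoly_toMatrix π b]
    refine (charpoly_blockDiag _ ?_).trans ?_
    rotate_left
    · refine Finset.prod_congr rfl fun ν _ => ?_
      rw [← LinearMap.charpoly_toMatrix (π.restrict (hstπ ν)) (Module.finBasis L (slopePart F ν))]
      congr 1
      ext i j
      have hb : b ⟨ν, j⟩ = (Module.finBasis L (slopePart F ν) j : N) := by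
        simp [b, DirectSum.IsInternal.collectedBasis_coe]
      simp only [LinearMap.toMatrix_apply, Matrix.of_apply, hb]
      exact DirectSum.IsInternal.collectedBasis_repr_of_mem hint' _
        (hstπ ν _ (Module.finBasis L (slopePart F ν) j).2)
    · rintro ⟨ν, i⟩ ⟨ν', j⟩ h
      have hb : b ⟨ν', j⟩ = (Module.finBasis L (slopePart F ν') j : N) := by
        simp [b, DirectSum.IsInternal.collectedBasis_coe]
      simp only [LinearMap.toMatrix_apply, hb]
      exact DirectSum.IsInternal.collectedBasis_repr_of_mem_ne hint' _ (Ne.symm h)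
        (hstπ ν' _ (Module.finBasis L (slopePart F ν') j).2)
  set pred := fun α : Ω => IsIntegral W (α ^ μ.den * (algebraMap L Ω (p : L)) ^ (-(μ.num * (m : ℤ))))
          ∧ IsIntegral W (α ^ μ.den * (algebraMap L Ω (p : L)) ^ (-(μ.num * (m : ℤ))))⁻¹ with hpred
  set R := fun ν : S => ((π.restrict (hstπ ν)).charpoly.map (algebraMap L Ω)).roots with hR
  have hroots : (π.charpoly.map (algebraMap L Ω)).roots = (Finset.univ : Finset S).val.bind R := by
    rw [hprod, Polynomial.map_prod, roots_prod]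
    exact Finset.prod_ne_zero_iff.2 fun ν _ => ((LinearMap.charpoly_monic _).map _).ne_zero
  have hcard : ∀ ν : S, Multiset.card (R ν) = newtonMult F (ν : ℚ) := fun ν => by
    simp only [hR]
    rw [IsAlgClosed.card_roots_eq_natDegree, Polynomial.natDegree_map, LinearMap.charpoly_natDegree]
    rfl
  have hcount : ∀ ν : S, Multiset.countP pred (R ν) = if (ν : ℚ) = μ then newtonMult F (ν : ℚ) else 0 := by
    intro ν
    obtain ⟨M, r, s, hs, hrs, hfg, hsp, him⟩ :=
      (pure_restrict_iff (hst ν) (ν : ℚ)).2 (slopePart_mem (F := F) hτ (ν : ℚ)).2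
    have hπ' : ∀ x, π.restrict (hstπ ν) x = (F.restrict (hst ν))^[m] x := fun x => by
      apply Subtype.ext
      show π x = _
      rw [hπ]
      exact (Function.Semiconj.iterate_right (f := Subtype.val) (fun _ => rfl) m x).symm
    have key : ∀ α ∈ R ν, pred α ↔ (ν : ℚ) = μ := by
      intro α hα
      obtain ⟨hβ, hβ', hβ0⟩ := root_unit ⟨hfg, hsp⟩ him (π.restrict (hstπ ν)) hπ' (isRoot_of_mem_roots hα)
      set P₀ := algebraMap L Ω (p : L) with hP₀
      have hp0 : P₀ ≠ 0 := fun e => pL_ne ((map_eq_zero _).1 e)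
      set β := α ^ s * P₀ ^ (-(r * m)) with hβdef
      set γ := α ^ μ.den * P₀ ^ (-(μ.num * (m : ℤ))) with hγdef
      have hpow : γ ^ s = β ^ μ.den * P₀ ^ ((r * μ.den - μ.num * s) * m) := by
        rw [hγdef, hβdef, mul_pow, mul_pow, ← pow_mul, ← pow_mul, ← zpow_natCast (P₀ ^ (-(μ.num * (m : ℤ)))),
          ← zpow_natCast (P₀ ^ (-(r * m))), ← zpow_mul, ← zpow_mul, mul_assoc, ← zpow_add₀ hp0,
          mul_comm μ.den s]
        congr 2
        ring
      have hs' : (s : ℚ) ≠ 0 := by exact_mod_cast hs.ne'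
      have heq : (ν : ℚ) = μ ↔ r * (μ.den : ℤ) = μ.num * s := by
        conv_lhs => rw [← hrs, ← μ.num_div_den, div_eq_div_iff hs' (by exact_mod_cast μ.den_nz)]
        exact_mod_cast Iff.rfl
      rw [heq]
      constructor
      · rintro ⟨hg, hg'⟩
        by_contra hne
        have he : (r * μ.den - μ.num * s) * m ≠ 0 :=
          mul_ne_zero (sub_ne_zero.2 hne) (by exact_mod_cast hm)
        apply not_unit_p (p := p) (k := k) (Ω := Ω) he
        · have : P₀ ^ ((r * μ.den - μ.num * s) * m) = γ ^ s * (β⁻¹) ^ μ.den := by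
            rw [hpow, inv_pow]; field_simp
          rw [this]; exact (hg.pow s).mul (hβ'.pow _)
        · have : (P₀ ^ ((r * μ.den - μ.num * s) * m))⁻¹ = (γ⁻¹) ^ s * β ^ μ.den := by
            rw [inv_pow, hpow, mul_inv]; field_simp
          rw [this]; exact (hg'.pow s).mul (hβ.pow _)
      · intro h
        rw [h, sub_self, zero_mul, zpow_zero, mul_one] at hpow
        exact ⟨IsIntegral.of_pow hs (hpow ▸ hβ.pow _),
          IsIntegral.of_pow hs (by rw [inv_pow, hpow, ← inv_pow]; exact hβ'.pow _)⟩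
    split_ifs with h
    · rw [← hcard ν, Multiset.countP_eq_card]
      exact fun a ha => (key a ha).2 h
    · rw [Multiset.countP_eq_zero]
      exact fun a ha hp => h ((key a ha).1 hp)
  rw [hroots]
  rw [show Multiset.countP pred ((Finset.univ : Finset S).val.bind R) = ∑ ν : S, Multiset.countP pred (R ν) from
    map_sum (Multiset.countPAddMonoidHom pred) R Finset.univ]
  simp only [hcount]
  rw [Finset.sum_coe_sort S (fun ν : ℚ => if ν = μ then newtonMult F ν else 0), Finset.sum_ite_eq']
  split_ifs with h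
  · rfl
  · simp only [S, Set.Finite.mem_toFinset, Set.mem_setOf_eq, not_not] at h
    rw [newtonMult, h, finrank_bot]

end LeadIsoc
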