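import Groth.Agent.Lead.Isoc.Std
import Groth.Agent.Lead.Isoc.Cyclic

/-! Fixed vectors of a lattice automorphism over an algebraically closed residue field. -/

noncomputable section

open scoped Pointwise
open Isoc

universe u v

namespace LeadIsoc

variable {p : ℕ} [Fact p.Prime] {k : Type u} [Field k] [CharP k p] [PerfectRing k p]

local notation "W" => WittVector p k
local notation "L" => FractionRing (WittVector p k)
local notation "ι" => algebraMap (WittVector p k) (FractionRing (WittVector p k))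

variable {τ : FractionRing (WittVector p k) →+* FractionRing (WittVector p k)}

/-- `τ` reduces to `x ↦ x^q`. -/
def Res (τ : FractionRing (WittVector p k) →+* FractionRing (WittVector p k)) (q : ℕ) : Prop :=
  ∀ w : WittVector p k, ∃ w' : WittVector p k,
    τ (algebraMap (WittVector p k) (FractionRing (WittVector p k)) w) =
      algebraMap (WittVector p k) (FractionRing (WittVector p k)) w' ∧ w'.coeff 0 = w.coeff 0 ^ q

/-- `τ` reduces to `x ↦ x^(1/q)`. -/
def CoRes (τ : FractionRing (WittVector p k) →+* FractionRing (WittVector p k)) (q : ℕ) : Prop :=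
  ∀ w : WittVector p k, ∃ w' : WittVector p k,
    τ (algebraMap (WittVector p k) (FractionRing (WittVector p k)) w) =
      algebraMap (WittVector p k) (FractionRing (WittVector p k)) w' ∧ w'.coeff 0 ^ q = w.coeff 0

/-- Either direction, with exponent a proper power of `p`. -/
def Moves (τ : FractionRing (WittVector p k) →+* FractionRing (WittVector p k)) : Prop :=
  ∃ n : ℕ, 0 < n ∧ (Res τ (p ^ n) ∨ CoRes τ (p ^ n))

lemma Res.pow {q : ℕ} (h : Res τ q) : ∀ s, Res (τ ^ s) (q ^ s) := by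
  intro s
  induction s with
  | zero => exact fun w => ⟨w, rfl, by simp⟩
  | succ s ih =>
    intro w
    obtain ⟨a, ha, ha'⟩ := ih w
    obtain ⟨b, hb, hb'⟩ := h a
    exact ⟨b, by rw [pow_succ', RingHom.coe_mul, Function.comp_apply, ha, hb],
      by rw [hb', ha', ← pow_mul, ← pow_succ]⟩

lemma CoRes.pow {q : ℕ} (h : CoRes τ q) : ∀ s, CoRes (τ ^ s) (q ^ s) := by
  intro s
  induction s with
  | zero => exact fun w => ⟨w, rfl, by simp⟩
  | succ s ih =>
    intro w
    obtain ⟨a, ha, ha'⟩ := ih w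
    obtain ⟨b, hb, hb'⟩ := h a
    exact ⟨b, by rw [pow_succ', RingHom.coe_mul, Function.comp_apply, ha, hb],
      by rw [← ha', ← hb', ← pow_mul, ← pow_succ']⟩

lemma Moves.pow (h : Moves τ) {s : ℕ} (hs : 0 < s) : Moves (τ ^ s) := by
  obtain ⟨n, hn, h⟩ := h
  refine ⟨n * s, Nat.mul_pos hn hs, ?_⟩
  rw [pow_mul]
  exact h.imp (·.pow s) (·.pow s)

lemma frobEquiv_pow_coeff (n : ℕ) (w : W) :
    ((WittVector.frobeniusEquiv p k ^ (n : ℤ)) w).coeff 0 = w.coeff 0 ^ p ^ n := by
  induction n generalizing w with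
  | zero => simp
  | succ n ih =>
    rw [Nat.cast_succ, zpow_add_one]
    show ((WittVector.frobeniusEquiv p k ^ (n : ℤ)) (WittVector.frobenius w)).coeff 0 = _
    rw [ih, WittVector.coeff_frobenius_charP, ← pow_mul, ← pow_succ']

lemma moves_frob {a : ℤ} (ha : a ≠ 0) : Moves (Isoc.frob p k a) := by
  refine ⟨a.natAbs, Int.natAbs_pos.2 ha, ?_⟩
  rcases le_total 0 a with h | h
  · left
    intro w
    refine ⟨_, frob_algebraMap p k a w, ?_⟩
    conv_lhs => rw [← Int.natAbs_of_nonneg h]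
    exact frobEquiv_pow_coeff _ w
  · right
    intro w
    refine ⟨_, frob_algebraMap p k a w, ?_⟩
    have := frobEquiv_pow_coeff (p := p) (k := k) a.natAbs ((WittVector.frobeniusEquiv p k ^ a) w)
    rw [← this]
    congr 1
    rw [show ((a.natAbs : ℤ)) = -a by omega, ← RingEquiv.trans_apply]
    show ((WittVector.frobeniusEquiv p k ^ (-a)) * (WittVector.frobeniusEquiv p k ^ a)) w = w
    rw [← zpow_add, neg_add_cancel, zpow_zero]
    rfl

variable {N : Type v} [AddCommGroup N] [Module (WittVector p k) N] [Module (FractionRing (WittVector p k)) N]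
  [IsScalarTower (WittVector p k) (FractionRing (WittVector p k)) N]
  [Module.Finite (FractionRing (WittVector p k)) N]

/-- A lattice automorphism. -/
structure Auto (G : N →ₛₗ[τ] N) (M : Submodule (WittVector p k) N) : Prop where
  inj : Function.Injective G
  lat : M.IsLattice (FractionRing (WittVector p k))
  img : G '' (M : Set N) = M

variable {G : N →ₛₗ[τ] N} {M : Submodule (WittVector p k) N}

lemma Auto.mem (h : Auto G M) {x : N} (hx : x ∈ M) : G x ∈ M := h.img.le ⟨x, hx, rfl⟩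

lemma Auto.lev (h : Auto G M) {q : ℕ} {x : N} (hx : x ∈ levM M q) : G x ∈ levM M q := by
  rw [mem_levM, ← map_P]; exact h.mem hx

lemma Auto.surj (h : Auto G M) : Function.Surjective G := by
  intro y
  obtain ⟨c, hc⟩ := exists_P_mem (p := p) (k := k) h.lat.span_eq_top y
  obtain ⟨x, -, hx⟩ := h.img.ge hc
  exact ⟨P (p := p) (k := k) (-(c : ℤ)) x, by rw [map_P, hx, P_P, neg_add_cancel, P_zero]⟩

lemma p_pow_two {n : ℕ} (hn : 0 < n) : 2 ≤ p ^ n ∧ ((p ^ n : ℕ) : k) = 0 := by
  have hp := (Fact.out : p.Prime)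
  exact ⟨le_trans hp.two_le (Nat.le_self_pow hn.ne' p), by rw [Nat.cast_pow, CharP.cast_eq_zero, zero_pow hn.ne']⟩

variable [IsAlgClosed k] (hτ : Tw τ)

include hτ in
lemma res_step {n : ℕ} (hn : 0 < n) (hq : Res τ (p ^ n)) (h : Auto G M) :
    (∀ y ∈ M, ∃ u ∈ M, G u - u - y ∈ levM M 1) ∧
    (Nontrivial N → ∃ u ∈ M, u ∉ levM M 1 ∧ G u - u ∈ levM M 1) := by
  classical
  obtain ⟨C⟩ := exists_co h.lat
  choose sec hsec using C.surj
  let g : M →+ (Fin (Module.finrank L N) → k) :=
    { toFun := fun x => C.toFun ⟨G x, h.mem x.2⟩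
      map_zero' := (congrArg C.toFun (Subtype.ext (map_zero G) : (⟨G ((0 : M) : N), h.mem (0 : M).2⟩ : M) = 0)).trans (map_zero _)
      map_add' := fun x y => by
        show C.toFun _ = C.toFun ⟨G (x : N), h.mem x.2⟩ + C.toFun ⟨G (y : N), h.mem y.2⟩
        rw [← map_add]; congr 1; exact Subtype.ext (map_add G (x : N) y) }
  have hg : ∀ x : M, C.toFun x = 0 → g x = 0 := fun x hx =>
    (C.ker _).2 (h.lev (q := 1) (by rw [mem_levM]; exact (C.ker x).1 hx))
  have hwd : ∀ x y : M, C.toFun x = C.toFun y → g x = g y := fun x y e => by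
    rw [← sub_eq_zero, ← map_sub]
    exact hg _ (by rw [map_sub, e, sub_self])
  let f : (Fin (Module.finrank L N) → k) →+ (Fin (Module.finrank L N) → k) :=
    { toFun := fun c => g (sec c)
      map_zero' := hg _ (hsec 0)
      map_add' := fun a b => by
        rw [← map_add]; exact hwd _ _ (by rw [map_add, hsec, hsec, hsec]) }
  have hf : ∀ x : M, f (C.toFun x) = g x := fun x => hwd _ _ (hsec _)
  have hinj : Function.Injective f := by
    refine (injective_iff_map_eq_zero f).2 fun c hc => ?_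
    rw [← hsec c, hf] at hc
    have h1 : P (p := p) (k := k) (-1) (G (sec c : N)) ∈ M := (C.ker _).1 hc
    obtain ⟨z, hz, hz'⟩ := h.img.ge h1
    rw [← hsec c, C.ker]
    rwa [show P (p := p) (k := k) (-1) (sec c : N) = z from h.inj (by rw [map_P, hz'])]
  have hsm : ∀ (c : k) x, f (c • x) = c ^ (p ^ n) • f x := by
    intro c x
    obtain ⟨t, rfl⟩ := WittVector.constantCoeff_surjective p c
    obtain ⟨t', ht', ht''⟩ := hq t
    rw [WittVector.constantCoeff_apply, ← hsec x, ← C.smul, hf, hf, ← ht'']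
    show C.toFun _ = _ • C.toFun ⟨G (sec x : N), h.mem (sec x).2⟩
    rw [← C.smul]
    congr 1
    apply Subtype.ext
    show G ((t • sec x : M) : N) = t' • G (sec x : N)
    rw [Submodule.coe_smul, ← ι_smul, map_smulₛₗ, ht', ι_smul]
  obtain ⟨hq2, hq0⟩ := p_pow_two (p := p) (k := k) hn
  refine ⟨fun y hy => ?_, fun hN => ?_⟩
  · obtain ⟨w, hw⟩ := res_solve f hinj hq2 hq0 hsm (C.toFun ⟨y, hy⟩)
    refine ⟨sec w, (sec w).2, ?_⟩
    have h1 : C.toFun (⟨G (sec w : N), h.mem (sec w).2⟩ - sec w - ⟨y, hy⟩) = 0 := by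
      rw [map_sub, map_sub, hsec, show C.toFun ⟨G (sec w : N), h.mem (sec w).2⟩ = f w from rfl, hw, sub_self]
    rw [mem_levM]
    exact (C.ker _).1 h1
  · haveI : Nonempty (Fin (Module.finrank L N)) := Fin.pos_iff_nonempty.1 Module.finrank_pos
    obtain ⟨w, hw0, hw⟩ := res_fixed f hinj hq2 hq0 hsm
    refine ⟨sec w, (sec w).2, fun hc => hw0 ?_, ?_⟩
    · rw [← hsec w, C.ker]
      rwa [mem_levM] at hc
    · have h1 : C.toFun (⟨G (sec w : N), h.mem (sec w).2⟩ - sec w) = 0 := by
        rw [map_sub, hsec, show C.toFun ⟨G (sec w : N), h.mem (sec w).2⟩ = f w from rfl, hw, sub_self]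
      rw [mem_levM]
      exact (C.ker _).1 h1

include hτ in
lemma res_lift {n : ℕ} (hn : 0 < n) (hq : Res τ (p ^ n)) (h : Auto G M) :
    (∀ y ∈ M, ∃ x ∈ M, G x - x = y) ∧ (Nontrivial N → ∃ v : N, v ≠ 0 ∧ G v = v) := by
  classical
  obtain ⟨h1, h2⟩ := res_step hτ hn hq h
  have hsolve : ∀ y ∈ M, ∃ x ∈ M, G x - x = y := by
    intro y hy
    choose! sol hsol hsol' using h1
    let xs : ℕ → N := fun q => Nat.rec 0 (fun q x => x + P (p := p) (k := k) (q : ℤ)
      (sol (P (p := p) (k := k) (-(q : ℤ)) (y - (G x - x))))) q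
    have hxs : ∀ q, xs (q + 1) = xs q + P (p := p) (k := k) (q : ℤ)
        (sol (P (p := p) (k := k) (-(q : ℤ)) (y - (G (xs q) - xs q)))) := fun q => rfl
    have inv : ∀ q, xs q ∈ M ∧ y - (G (xs q) - xs q) ∈ levM M q := by
      intro q
      induction q with
      | zero => exact ⟨M.zero_mem, by simpa [xs, mem_levM] using hy⟩
      | succ q ih =>
        obtain ⟨ihM, ihq⟩ := ih
        rw [mem_levM] at ihq
        obtain ⟨Y, hY⟩ : ∃ Y, P (p := p) (k := k) (-(q : ℤ)) (y - (G (xs q) - xs q)) = Y := ⟨_, rfl⟩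
        rw [hY] at ihq
        refine ⟨by rw [hxs, hY, P_nat]; exact M.add_mem ihM (M.smul_mem _ (hsol _ ihq)), ?_⟩
        have e : y - (G (xs (q + 1)) - xs (q + 1)) = P (p := p) (k := k) (q : ℤ) (-(G (sol Y) - sol Y - Y)) := by
          have hY' : P (p := p) (k := k) (q : ℤ) Y = y - (G (xs q) - xs q) := by
            rw [← hY, P_P, add_neg_cancel, P_zero]
          rw [hxs, hY, map_add, map_P, show -(G (sol Y) - sol Y - Y) = Y - (G (sol Y) - sol Y) by abel, P_sub, hY', P_sub]
          abel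
        rw [e, mem_levM, P_P]
        have := (levM M 1).neg_mem (hsol' _ ihq)
        rw [mem_levM] at this
        convert this using 2
        push_cast; ring
    have hcomp : ∀ q, xs (q + 1) - xs q ∈ levM M q := fun q => by
      rw [hxs, add_sub_cancel_left, mem_levM, P_P, neg_add_cancel, P_zero]
      exact hsol _ (inv q).2
    obtain ⟨x, hxM, hx⟩ := exists_limit h.lat xs (fun q => (inv q).1) hcomp
    refine ⟨x, hxM, ?_⟩
    apply eq_of_sub_eq_zero
    refine separated h.lat fun q => ?_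
    have e : G x - x - y = G (x - xs q) - (x - xs q) - (y - (G (xs q) - xs q)) := by rw [map_sub]; abel
    rw [← mem_levM, e]
    exact (levM M q).sub_mem ((levM M q).sub_mem (h.lev (hx q)) (hx q)) (inv q).2
  refine ⟨hsolve, fun hN => ?_⟩
  obtain ⟨u, hu, hu1, hu2⟩ := h2 hN
  rw [mem_levM] at hu2
  obtain ⟨x, hx, hxe⟩ := hsolve _ hu2
  refine ⟨u - P (p := p) (k := k) ((1 : ℕ) : ℤ) x, fun e => hu1 ?_, ?_⟩
  · rw [sub_eq_zero] at e
    rw [mem_levM, e, P_P, neg_add_cancel, P_zero]
    exact hx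
  · have e : P (p := p) (k := k) ((1 : ℕ) : ℤ) (G x - x) = G u - u := by
      rw [hxe, P_P, add_neg_cancel, P_zero]
    rw [P_sub] at e
    rw [map_sub, map_P, ← sub_eq_zero]
    calc G u - P (p := p) (k := k) ((1 : ℕ) : ℤ) (G x) - (u - P (p := p) (k := k) ((1 : ℕ) : ℤ) x)
        = (G u - u) - (P (p := p) (k := k) ((1 : ℕ) : ℤ) (G x) - P (p := p) (k := k) ((1 : ℕ) : ℤ) x) := by abel
      _ = 0 := by rw [e, sub_self]

include hτ in
/-- Either direction of the twist. -/
theorem lift (hm : Moves τ) (h : Auto G M) :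
    (∀ y : N, ∃ x, G x - x = y) ∧ (Nontrivial N → ∃ v : N, v ≠ 0 ∧ G v = v) := by
  classical
  suffices hh : (∀ y ∈ M, ∃ x, G x - x = y) ∧ (Nontrivial N → ∃ v : N, v ≠ 0 ∧ G v = v) by
    refine ⟨fun y => ?_, hh.2⟩
    obtain ⟨c, hc⟩ := exists_P_mem (p := p) (k := k) h.lat.span_eq_top y
    obtain ⟨x, hx⟩ := hh.1 _ hc
    refine ⟨P (p := p) (k := k) (-(c : ℤ)) x, ?_⟩
    rw [map_P, ← P_sub, hx, P_P, neg_add_cancel, P_zero]
  obtain ⟨n, hn, hr | hr⟩ := hm
  · obtain ⟨h1, h2⟩ := res_lift hτ hn hr h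
    exact ⟨fun y hy => (h1 y hy).imp fun _ hx => hx.2, h2⟩
  · let σe := RingEquiv.ofBijective τ ⟨τ.injective, tw_surj hτ⟩
    set σ : L →+* L := σe.symm.toRingHom with hσdef
    have hστ : ∀ c, σ (τ c) = c := fun c => σe.symm_apply_apply c
    have hτσ : ∀ c, τ (σ c) = c := fun c => σe.apply_symm_apply c
    have hres : Res σ (p ^ n) := by
      intro w
      obtain ⟨a, ha⟩ := hτ.surjW w
      obtain ⟨b, hb, hb'⟩ := hr a
      refine ⟨a, by rw [← ha, hστ], ?_⟩
      rw [ι_inj (ha.symm.trans hb), hb']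
    have hσ : Tw σ := by
      refine ⟨fun w => (hres w).imp fun _ h => h.1, fun w' => ?_, fun u => ?_⟩
      · obtain ⟨b, hb⟩ := hτ.pres w'
        exact ⟨b, by rw [← hb, hστ]⟩
      · obtain ⟨a, ha, ha'⟩ := hres u
        have : a.coeff 0 ≠ 0 := by
          rw [ha']
          exact pow_ne_zero _ (IsUnit.ne_zero (u.isUnit.map WittVector.constantCoeff))
        exact ⟨(WittVector.isUnit_of_coeff_zero_ne_zero a this).unit, ha⟩
    let e := Equiv.ofBijective G ⟨h.inj, h.surj⟩
    have he : ∀ x, G (e.symm x) = x := e.apply_symm_apply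
    let H : N →ₛₗ[σ] N :=
      { toFun := e.symm
        map_add' := fun x y => h.inj (by rw [he, map_add G, he, he])
        map_smul' := fun c x => h.inj (by rw [he, map_smulₛₗ G, hτσ, he]) }
    have hH : ∀ x, G (H x) = x := he
    have hHi : Function.Injective H := e.symm.injective
    have hA : Auto H M := by
      refine ⟨hHi, h.lat, ?_⟩
      conv_lhs => rw [← h.img, ← Set.image_comp]
      have : (⇑H ∘ ⇑G) = id := funext fun x => e.symm_apply_apply x
      rw [this, Set.image_id]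
    obtain ⟨h1, h2⟩ := res_lift hσ hn hres hA
    refine ⟨fun y hy => ?_, fun hN => ?_⟩
    · obtain ⟨z, -, hz⟩ := h1 (-y) (M.neg_mem hy)
      refine ⟨H z, ?_⟩
      rw [hH, ← neg_sub, hz, neg_neg]
    · obtain ⟨v, hv, hv'⟩ := h2 hN
      exact ⟨v, hv, by rw [← hv', hH]; exact hv'.symm⟩

end LeadIsoc
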