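import Groth.Agent.Lead.Isoc.Slope

/-! Pure sub-isocrystals, the slope decomposition. -/

noncomputable section

open scoped Pointwise
open Isoc Filter Topology

universe u v w

namespace LeadIsoc

variable {p : ℕ} [Fact p.Prime] {k : Type u} [Field k] [CharP k p] [PerfectRing k p]

local notation "W" => WittVector p k
local notation "L" => FractionRing (WittVector p k)
local notation "ι" => algebraMap (WittVector p k) (FractionRing (WittVector p k))

variable {N : Type v} [AddCommGroup N] [Module (WittVector p k) N] [Module (FractionRing (WittVector p k)) N]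
  [IsScalarTower (WittVector p k) (FractionRing (WittVector p k)) N]
variable {τ : FractionRing (WittVector p k) →+* FractionRing (WittVector p k)}

/-- `P` carries a lattice with `F^s M = p^r M`, `r/s = μ`. -/
def Pure (F : N →ₛₗ[τ] N) (μ : ℚ) (Q : Submodule (FractionRing (WittVector p k)) N) : Prop :=
  ∃ (M : Submodule (WittVector p k) N) (r : ℤ) (s : ℕ), 0 < s ∧ (r : ℚ) / s = μ ∧ M.FG ∧
    Submodule.span (FractionRing (WittVector p k)) (M : Set N) = Q ∧ tw F r s '' M = M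

variable {F : N →ₛₗ[τ] N}

lemma coe_tw_restrict {Q : Submodule L N} (hQ : ∀ x ∈ Q, F x ∈ Q) (r : ℤ) (s : ℕ) (x : Q) :
    ((tw (F.restrict hQ) r s x : Q) : N) = tw F r s (x : N) := by
  rw [tw_apply, tw_apply]
  simp only [P, Submodule.coe_smul]
  congr 1
  induction s with
  | zero => rfl
  | succ s ih => rw [Function.iterate_succ_apply', Function.iterate_succ_apply', ← ih]; rfl

lemma span_map_subtype {Q : Submodule L N} (M : Submodule W Q) :
    Submodule.span L ((M.map (Q.subtype.restrictScalars W) : Submodule W N) : Set N) =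
      (Submodule.span L (M : Set Q)).map Q.subtype := by
  rw [Submodule.map_span]; rfl

lemma pure_restrict_iff {Q : Submodule L N} (hQ : ∀ x ∈ Q, F x ∈ Q) (μ : ℚ) :
    Pure (F.restrict hQ) μ ⊤ ↔ Pure F μ Q := by
  constructor
  · rintro ⟨M, r, s, hs, hμ, hfg, hsp, him⟩
    refine ⟨M.map (Q.subtype.restrictScalars W), r, s, hs, hμ, hfg.map _, ?_, ?_⟩
    · rw [span_map_subtype, hsp, Submodule.map_top, Submodule.range_subtype]
    · rw [Submodule.map_coe, ← Set.image_comp]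
      conv_rhs => rw [← him, ← Set.image_comp]
      exact Set.image_congr fun x _ => (coe_tw_restrict hQ r s x).symm
  · rintro ⟨M, r, s, hs, hμ, hfg, hsp, him⟩
    have hMQ : (M : Set N) ⊆ Q := hsp ▸ Submodule.subset_span
    set M' := M.comap (Q.subtype.restrictScalars W)
    have hmap : M'.map (Q.subtype.restrictScalars W) = M := Submodule.map_comap_eq_self fun x hx =>
      ⟨⟨x, hMQ hx⟩, rfl⟩
    refine ⟨M', r, s, hs, hμ, ?_, ?_, ?_⟩
    · exact Submodule.fg_of_fg_map_injective _ (Subtype.val_injective) (hmap.symm ▸ hfg)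
    · apply Submodule.map_injective_of_injective Q.injective_subtype
      rw [← span_map_subtype, hmap, hsp, Submodule.map_top, Submodule.range_subtype]
    · apply Set.image_injective.2 (Subtype.val_injective (p := (· ∈ Q)))
      have hM' : Subtype.val '' (M' : Set Q) = M := congrArg SetLike.coe hmap
      rw [hM', ← Set.image_comp]
      conv_rhs => rw [← him, ← hM', ← Set.image_comp]
      exact Set.image_congr fun x _ => coe_tw_restrict hQ r s x

variable (hτ : Tw τ)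

include hτ in
lemma isoclinic_iff_pure (μ : ℚ) : IsIsoclinic F μ ↔ Pure F μ ⊤ := by
  constructor
  · rintro ⟨M, hM, r, s, hs, hμ, hFM⟩
    exact ⟨M, r, s, hs, hμ, hM.fg, hM.span_eq_top, (latImg_eq_pPow_iff hτ F s r M).1 hFM⟩
  · rintro ⟨M, r, s, hs, hμ, hfg, hsp, him⟩
    exact ⟨M, ⟨hfg, hsp⟩, r, s, hs, hμ, (latImg_eq_pPow_iff hτ F s r M).2 him⟩

include hτ in
lemma isoclinic_restrict_iff {Q : Submodule L N} (hQ : ∀ x ∈ Q, F x ∈ Q) (μ : ℚ) :
    IsIsoclinic (F.restrict hQ) μ ↔ Pure F μ Q := by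
  rw [isoclinic_iff_pure hτ, pure_restrict_iff]

lemma pure_bot (μ : ℚ) : Pure F μ ⊥ :=
  ⟨⊥, μ.num, μ.den, μ.den_pos, μ.num_div_den, Submodule.fg_bot,
    (eq_bot_iff.2 (Submodule.span_le.2 (by simp))), by simp⟩

lemma pure_sup {μ : ℚ} {Q₁ Q₂ : Submodule L N} (h₁ : Pure F μ Q₁) (h₂ : Pure F μ Q₂) :
    Pure F μ (Q₁ ⊔ Q₂) := by
  obtain ⟨M₁, r₁, s₁, hs₁, hμ₁, hfg₁, hsp₁, him₁⟩ := h₁
  obtain ⟨M₂, r₂, s₂, hs₂, hμ₂, hfg₂, hsp₂, him₂⟩ := h₂
  have he : r₂ * (s₁ : ℤ) = r₁ * s₂ := by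
    have hs₁' : (s₁ : ℚ) ≠ 0 := by exact_mod_cast hs₁.ne'
    have hs₂' : (s₂ : ℚ) ≠ 0 := by exact_mod_cast hs₂.ne'
    have h := hμ₁.trans hμ₂.symm
    rw [div_eq_div_iff hs₁' hs₂'] at h
    exact_mod_cast h.symm
  have i₁ := twMul_image him₁ s₂
  have i₂ := twMul_image him₂ s₁
  rw [he, mul_comm s₂ s₁] at i₂
  refine ⟨M₁ ⊔ M₂, r₁ * s₂, s₁ * s₂, Nat.mul_pos hs₁ hs₂, ?_, hfg₁.sup hfg₂, ?_, ?_⟩
  · rw [← hμ₁]
    have hs₁' : (s₁ : ℚ) ≠ 0 := by exact_mod_cast hs₁.ne'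
    have hs₂' : (s₂ : ℚ) ≠ 0 := by exact_mod_cast hs₂.ne'
    push_cast; field_simp
  · rw [← hsp₁, ← hsp₂, ← Submodule.span_union]
    apply le_antisymm
    · rw [Submodule.span_le]
      intro x hx
      obtain ⟨a, ha, b, hb, rfl⟩ := Submodule.mem_sup.1 hx
      exact Submodule.add_mem _ (Submodule.subset_span (Or.inl ha)) (Submodule.subset_span (Or.inr hb))
    · apply Submodule.span_mono
      exact Set.union_subset (fun x hx => Submodule.mem_sup_left hx) (fun x hx => Submodule.mem_sup_right hx)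
  · apply Set.eq_of_subset_of_subset
    · rintro _ ⟨x, hx, rfl⟩
      obtain ⟨a, ha, b, hb, rfl⟩ := Submodule.mem_sup.1 hx
      rw [map_add]
      exact (M₁ ⊔ M₂).add_mem (Submodule.mem_sup_left (i₁.le ⟨a, ha, rfl⟩))
        (Submodule.mem_sup_right (i₂.le ⟨b, hb, rfl⟩))
    · intro y hy
      obtain ⟨a, ha, b, hb, rfl⟩ := Submodule.mem_sup.1 hy
      obtain ⟨a', ha', rfl⟩ := i₁.ge ha
      obtain ⟨b', hb', rfl⟩ := i₂.ge hb
      exact ⟨a' + b', Submodule.add_mem _ (Submodule.mem_sup_left ha') (Submodule.mem_sup_right hb'),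
        map_add _ _ _⟩

/-- Stable pure subspaces. -/
def PureSet (F : N →ₛₗ[τ] N) (μ : ℚ) : Set (Submodule (FractionRing (WittVector p k)) N) :=
  {Q | (∀ x ∈ Q, F x ∈ Q) ∧ Pure F μ Q}

include hτ in
lemma slopePart_eq (μ : ℚ) : slopePart F μ = sSup (PureSet F μ) := by
  unfold slopePart
  congr 1
  ext Q
  exact ⟨fun ⟨hQ, h⟩ => ⟨hQ, (isoclinic_restrict_iff hτ hQ μ).1 h⟩,
    fun ⟨hQ, h⟩ => ⟨hQ, (isoclinic_restrict_iff hτ hQ μ).2 h⟩⟩

include hτ in
theorem slopePart_mem [Module.Finite L N] (μ : ℚ) : slopePart F μ ∈ PureSet F μ := by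
  have hne : (PureSet F μ).Nonempty := ⟨⊥, fun x hx => by
    rw [Submodule.mem_bot] at hx ⊢; simp [hx], pure_bot μ⟩
  obtain ⟨Q, hQ, hmax⟩ := set_has_maximal_iff_noetherian.2 (inferInstance : IsNoetherian L N) _ hne
  suffices slopePart F μ = Q by rw [this]; exact hQ
  rw [slopePart_eq hτ]
  refine le_antisymm (sSup_le fun R hR => ?_) (le_sSup hQ)
  have hmem : Q ⊔ R ∈ PureSet F μ := by
    refine ⟨fun x hx => ?_, pure_sup hQ.2 hR.2⟩
    obtain ⟨a, ha, b, hb, rfl⟩ := Submodule.mem_sup.1 hx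
    rw [map_add]
    exact Submodule.add_mem _ (Submodule.mem_sup_left (hQ.1 a ha)) (Submodule.mem_sup_right (hR.1 b hb))
  by_contra hc
  exact hmax _ hmem (lt_of_le_of_ne le_sup_left fun he => hc (he ▸ le_sup_right))

include hτ in
lemma le_slopePart {μ : ℚ} {Q : Submodule L N} (h : Q ∈ PureSet F μ) : Q ≤ slopePart F μ := by
  rw [slopePart_eq hτ]; exact le_sSup h

include hτ in
/-- Stable subspaces are preserved backwards. -/
lemma stable_preimage [Module.Finite L N] {G : N →ₛₗ[τ] N} (hG : Function.Injective G)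
    {Q : Submodule L N} (hQ : ∀ x ∈ Q, G x ∈ Q) {x : N} (hx : G x ∈ Q) : x ∈ Q := by
  let B := Module.finBasis L Q
  have hli := linIndep_map hτ (F := G.restrict hQ)
    (fun a b h => Subtype.ext (hG (congrArg Subtype.val h))) B.linearIndependent
  have hsp := hli.span_eq_top_of_card_eq_finrank' (by simp)
  have hmem : (⟨G x, hx⟩ : Q) ∈ Submodule.span L (Set.range fun i => G.restrict hQ (B i)) := by
    rw [hsp]; exact Submodule.mem_top
  rw [Submodule.mem_span_range_iff_exists_fun] at hmem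
  obtain ⟨c, hc⟩ := hmem
  choose d hd using tw_surj hτ
  have : G (∑ i, d (c i) • (B i : N)) = G x := by
    have h1 := congrArg Subtype.val hc
    simp only [Submodule.coe_sum, Submodule.coe_smul] at h1
    rw [map_sum, ← h1]
    apply Finset.sum_congr rfl
    intro i _
    rw [map_smulₛₗ, hd]
    rfl
  rw [← hG this]
  exact Submodule.sum_mem _ fun i _ => Q.smul_mem _ (B i).2

lemma iter_stable {Q : Submodule L N} (hQ : ∀ x ∈ Q, F x ∈ Q) (r : ℤ) (s : ℕ) :
    ∀ x ∈ Q, tw F r s x ∈ Q := by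
  intro x hx
  rw [tw_apply]
  refine Q.smul_mem _ ?_
  induction s with
  | zero => exact hx
  | succ s ih => rw [Function.iterate_succ_apply']; exact hQ _ ih

lemma exists_P_mem_span {M : Submodule W N} {Q : Submodule L N}
    (hsp : Submodule.span L (M : Set N) = Q) {x : N} (hx : x ∈ Q) :
    ∃ c : ℕ, P (p := p) (k := k) (c : ℤ) x ∈ M := by
  have hMQ : (M : Set N) ⊆ Q := hsp ▸ Submodule.subset_span
  have hmap : (M.comap (Q.subtype.restrictScalars W)).map (Q.subtype.restrictScalars W) = M :=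
    Submodule.map_comap_eq_self fun x hx => ⟨⟨x, hMQ hx⟩, rfl⟩
  have hsp' : Submodule.span L ((M.comap (Q.subtype.restrictScalars W) : Submodule W Q) : Set Q) = ⊤ := by
    apply Submodule.map_injective_of_injective Q.injective_subtype
    rw [← span_map_subtype, hmap, hsp, Submodule.map_top, Submodule.range_subtype]
  obtain ⟨c, hc⟩ := exists_P_mem (p := p) (k := k) hsp' ⟨x, hx⟩
  exact ⟨c, hc⟩

include hτ in
lemma pure_inter [Module.Finite L N] (hF : Function.Injective F) {μ : ℚ} {Q R : Submodule L N}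
    (hQ : Pure F μ Q) (hRQ : R ≤ Q) (hR : ∀ x ∈ R, F x ∈ R) : Pure F μ R := by
  obtain ⟨M, r, s, hs, hμ, hfg, hsp, him⟩ := hQ
  refine ⟨M ⊓ R.restrictScalars W, r, s, hs, hμ, ?_, ?_, ?_⟩
  · haveI := isNoetherian_of_fg_of_noetherian M hfg
    haveI : IsNoetherian W (M ⊓ R.restrictScalars W : Submodule W N) := isNoetherian_of_le inf_le_left
    exact Module.Finite.iff_fg.1 inferInstance
  · refine le_antisymm (Submodule.span_le.2 fun x hx => hx.2) fun x hx => ?_
    obtain ⟨c, hc⟩ := exists_P_mem_span hsp (hRQ hx)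
    have h1 : P (p := p) (k := k) (c : ℤ) x ∈
        Submodule.span L ((M ⊓ R.restrictScalars W : Submodule W N) : Set N) :=
      Submodule.subset_span ⟨hc, R.smul_mem _ hx⟩
    have h2 := Submodule.smul_mem _ ((p : L) ^ (-(c : ℤ))) h1
    rwa [← P_def, P_P, neg_add_cancel, P_zero] at h2
  · apply Set.eq_of_subset_of_subset
    · rintro _ ⟨x, ⟨hx, hxR⟩, rfl⟩
      exact ⟨him.le ⟨x, hx, rfl⟩, iter_stable hR r s x hxR⟩
    · rintro y ⟨hy, hyR⟩
      obtain ⟨x, hx, rfl⟩ := him.ge hy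
      exact ⟨x, ⟨hx, stable_preimage (hτ.pow s) (tw_injective hF r s) (iter_stable hR r s) hyR⟩, rfl⟩

include hτ in
lemma fg_image {N₂ : Type w} [AddCommGroup N₂] [Module W N₂] [Module L N₂] [IsScalarTower W L N₂]
    (f : N →ₛₗ[τ] N₂) {X : Submodule W N} (hX : X.FG) :
    ∃ Y : Submodule W N₂, Y.FG ∧ ∀ x ∈ X, f x ∈ Y := by
  classical
  obtain ⟨s, rfl⟩ := hX
  refine ⟨Submodule.span W (f '' (s : Set N)), Submodule.fg_span (s.finite_toSet.image _), fun x hx => ?_⟩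
  induction hx using Submodule.span_induction with
  | mem y hy => exact Submodule.subset_span ⟨y, hy, rfl⟩
  | zero => rw [map_zero]; exact zero_mem _
  | add a b _ _ ha hb => rw [map_add]; exact add_mem ha hb
  | smul t y _ hy =>
    obtain ⟨t', ht'⟩ := hτ.pres t
    rw [← ι_smul, map_smulₛₗ, ht', ι_smul]
    exact Submodule.smul_mem _ _ hy

section HomZero

variable {N₂ : Type w} [AddCommGroup N₂] [Module (WittVector p k) N₂] [Module (FractionRing (WittVector p k)) N₂]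
  [IsScalarTower (WittVector p k) (FractionRing (WittVector p k)) N₂]
variable {τ₁ τ₂ : FractionRing (WittVector p k) →+* FractionRing (WittVector p k)}

lemma hom_zero (f : N →+ N₂) (fP : ∀ r x, f (P (p := p) (k := k) r x) = P (p := p) (k := k) r (f x))
    (G₁ : N →ₛₗ[τ₁] N) (G₂ : N₂ →ₛₗ[τ₂] N₂) (X : Submodule W N) (Y : Submodule W N₂)
    (fG : ∀ n, ∀ x ∈ X, f (G₁^[n] x) = G₂^[n] (f x))
    (hX : ∀ n : ℕ, ∀ x ∈ X, ∃ x' ∈ X, G₁^[n] x' = x)
    (c : ℕ) (hc : ∀ x ∈ X, P (p := p) (k := k) (c : ℤ) (f x) ∈ Y)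
    (hY : ∀ q : ℕ, ∃ n : ℕ, ∀ y ∈ Y, P (p := p) (k := k) (-(q : ℤ)) (G₂^[n] y) ∈ Y)
    (hsep : ∀ y, (∀ q : ℕ, P (p := p) (k := k) (-(q : ℤ)) y ∈ Y) → y = 0) :
    ∀ x ∈ X, f x = 0 := by
  intro x hx
  refine hsep _ fun q => ?_
  obtain ⟨n, hn⟩ := hY (q + c)
  obtain ⟨x', hx', rfl⟩ := hX n x hx
  have := hn _ (hc x' hx')
  rw [iterate_P, P_P, ← fG n x' hx'] at this
  convert this using 2
  push_cast; ring

lemma hom_zero' (f : N →+ N₂) (fP : ∀ r x, f (P (p := p) (k := k) r x) = P (p := p) (k := k) r (f x))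
    (G₁ : N →ₛₗ[τ₁] N) (G₂ : N₂ →ₛₗ[τ₂] N₂) (hinj : Function.Injective G₂)
    (X : Submodule W N) (Y : Submodule W N₂)
    (fG : ∀ n, ∀ x ∈ X, f (G₁^[n] x) = G₂^[n] (f x))
    (hY : ∀ n : ℕ, ∀ y ∈ Y, ∃ y' ∈ Y, G₂^[n] y' = y)
    (c : ℕ) (hc : ∀ x ∈ X, P (p := p) (k := k) (c : ℤ) (f x) ∈ Y)
    (hX : ∀ q : ℕ, ∃ n : ℕ, ∀ x ∈ X, P (p := p) (k := k) (-(q : ℤ)) (G₁^[n] x) ∈ X)
    (hsep : ∀ y, (∀ q : ℕ, P (p := p) (k := k) (-(q : ℤ)) y ∈ Y) → y = 0) :
    ∀ x ∈ X, f x = 0 := by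
  intro x hx
  refine hsep _ fun q => ?_
  obtain ⟨n, hn⟩ := hX (q + c)
  have h1 := hc _ (hn x hx)
  rw [fP, fG n x hx, P_P, ← iterate_P] at h1
  obtain ⟨y', hy', hyy⟩ := hY n _ h1
  have := hinj.iterate n hyy
  rw [this] at hy'
  convert hy' using 2
  push_cast; ring

end HomZero

lemma image_iterate_ex {α : Type*} {f : α → α} {s : Set α} (h : f '' s = s) (n : ℕ) :
    ∀ x ∈ s, ∃ x' ∈ s, f^[n] x' = x := fun _ hx => (image_iterate h n).ge hx

include hτ in
lemma tw_shift_contract {r R : ℤ} {s : ℕ} {M : Submodule W N}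
    (him : tw F R s '' M = M) (hlt : r < R) :
    ∀ q : ℕ, ∃ n : ℕ, ∀ y ∈ M, P (p := p) (k := k) (-(q : ℤ)) ((tw F r s)^[n] y) ∈ M := by
  intro q
  refine ⟨q, fun y hy => ?_⟩
  have h1 := (image_iterate him q).le ⟨y, hy, rfl⟩
  rw [SetLike.mem_coe, tw_iterate] at h1
  rw [tw_iterate, P_P]
  refine P_mem_mono ?_ h1
  have : (1 : ℤ) ≤ R - r := by omega
  have hq : (0 : ℤ) ≤ q := Int.natCast_nonneg q
  nlinarith

include hτ in
lemma sep_span [Module.Finite L N] {μ : ℚ} {Q : Submodule L N} {M : Submodule W N} (hfg : M.FG)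
    (hsp : Submodule.span L (M : Set N) = Q) :
    ∀ y, (∀ q : ℕ, P (p := p) (k := k) (-(q : ℤ)) y ∈ M) → y = 0 := by
  intro y hy
  have hMQ : (M : Set N) ⊆ Q := hsp ▸ Submodule.subset_span
  have hyQ : y ∈ Q := by simpa using hMQ (hy 0)
  set M' := M.comap (Q.subtype.restrictScalars W)
  have hmap : M'.map (Q.subtype.restrictScalars W) = M :=
    Submodule.map_comap_eq_self fun x hx => ⟨⟨x, hMQ hx⟩, rfl⟩
  have hlat : M'.IsLattice L := by
    refine ⟨Submodule.fg_of_fg_map_injective _ Subtype.val_injective (hmap.symm ▸ hfg), ?_⟩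
    apply Submodule.map_injective_of_injective Q.injective_subtype
    rw [← span_map_subtype, hmap, hsp, Submodule.map_top, Submodule.range_subtype]
  have := separated (p := p) (k := k) hlat (x := ⟨y, hyQ⟩) hy
  exact congrArg Subtype.val this

include hτ in
/-- Morphisms between different slopes vanish. -/
theorem hom_eq_zero {N₂ : Type w} [AddCommGroup N₂] [Module W N₂] [Module L N₂] [IsScalarTower W L N₂]
    [Module.Finite L N₂] {F₂ : N₂ →ₛₗ[τ] N₂} (hF₂ : Function.Injective F₂) {μ ν : ℚ}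
    (hne : μ ≠ ν) {Q : Submodule L N} (h₁ : Pure F μ Q) (h₂ : Pure F₂ ν ⊤) (f : N →ₗ[L] N₂)
    (hf : ∀ x ∈ Q, f (F x) = F₂ (f x)) (hQs : ∀ x ∈ Q, F x ∈ Q) : ∀ x ∈ Q, f x = 0 := by
  obtain ⟨M₁, r₁, s₁, hs₁, hμ₁, hfg₁, hsp₁, him₁⟩ := h₁
  obtain ⟨M₂, r₂, s₂, hs₂, hμ₂, hfg₂, hsp₂, him₂⟩ := h₂
  have i₁ := twMul_image him₁ s₂
  have i₂ := twMul_image him₂ s₁
  rw [mul_comm s₂ s₁] at i₂
  set S := s₁ * s₂
  set R₁ := r₁ * (s₂ : ℤ)
  set R₂ := r₂ * (s₁ : ℤ)
  have hne' : R₁ ≠ R₂ := by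
    intro he
    apply hne
    rw [← hμ₁, ← hμ₂]
    have hs₁' : (s₁ : ℚ) ≠ 0 := by exact_mod_cast hs₁.ne'
    have hs₂' : (s₂ : ℚ) ≠ 0 := by exact_mod_cast hs₂.ne'
    rw [div_eq_div_iff hs₁' hs₂']
    exact_mod_cast he
  have fP : ∀ r x, f.toAddMonoidHom (P (p := p) (k := k) r x) = P (p := p) (k := k) r (f.toAddMonoidHom x) :=
    fun r x => f.map_smul _ x
  have hMQ : ∀ x ∈ M₁, x ∈ Q := fun x hx => hsp₁ ▸ Submodule.subset_span hx
  have fiter : ∀ j : ℕ, ∀ x ∈ Q, f (F^[j] x) = F₂^[j] (f x) ∧ F^[j] x ∈ Q := by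
    intro j
    induction j with
    | zero => exact fun x hx => ⟨rfl, hx⟩
    | succ j ih =>
      intro x hx
      obtain ⟨h1, h2⟩ := ih x hx
      rw [Function.iterate_succ_apply', Function.iterate_succ_apply', hf _ h2, h1]
      exact ⟨rfl, hQs _ h2⟩
  have fG : ∀ (r : ℤ) (n : ℕ), ∀ x ∈ M₁, f.toAddMonoidHom ((tw F r S)^[n] x) =
      (tw F₂ r S)^[n] (f.toAddMonoidHom x) := by
    intro r n x hx
    rw [tw_iterate, tw_iterate, fP]
    exact congrArg _ (fiter _ x (hMQ x hx)).1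
  obtain ⟨c, hc⟩ := absorb (p := p) (k := k) hsp₂ (hfg₁.map (f.restrictScalars W))
  have hbound : ∀ x ∈ M₁, P (p := p) (k := k) (c : ℤ) (f.toAddMonoidHom x) ∈ M₂ :=
    fun x hx => hc _ ⟨x, hx, rfl⟩
  have hsep := sep_span (μ := μ) hτ hfg₂ hsp₂
  have hzero : ∀ x ∈ M₁, f x = 0 := by
    rcases lt_or_gt_of_ne hne' with h | h
    · exact hom_zero f.toAddMonoidHom fP (tw F R₁ S) (tw F₂ R₁ S) M₁ M₂ (fG R₁)
        (fun n => image_iterate_ex i₁ n) c hbound (tw_shift_contract hτ i₂ h) hsep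
    · exact hom_zero' f.toAddMonoidHom fP (tw F R₂ S) (tw F₂ R₂ S) (tw_injective hF₂ _ _) M₁ M₂ (fG R₂)
        (fun n => image_iterate_ex i₂ n) c hbound (tw_shift_contract hτ i₁ h) hsep
  intro x hx
  obtain ⟨c', hc'⟩ := exists_P_mem_span hsp₁ hx
  have := hzero _ hc'
  rw [show f (P (p := p) (k := k) (c' : ℤ) x) = P (p := p) (k := k) (c' : ℤ) (f x) from fP _ x] at this
  exact P_inj (p := p) (k := k) (c' : ℤ) (this.trans (smul_zero _).symm)

include hτ in
lemma pure_disjoint [Module.Finite L N] (hF : Function.Injective F) {μ ν : ℚ} (hne : μ ≠ ν)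
    {Q R : Submodule L N} (hQ : Q ∈ PureSet F μ) (hR : R ∈ PureSet F ν) : Q ⊓ R = ⊥ := by
  have hstab : ∀ x ∈ Q ⊓ R, F x ∈ Q ⊓ R := fun x hx => ⟨hQ.1 x hx.1, hR.1 x hx.2⟩
  have h1 := pure_inter hτ hF hQ.2 inf_le_left hstab
  have h2 := pure_inter hτ hF hR.2 (inf_le_right (a := Q)) hstab
  have hinj : Function.Injective (F.restrict hstab) :=
    fun a b h => Subtype.ext (hF (congrArg Subtype.val h))
  have h0 := hom_eq_zero hτ hinj hne ((pure_restrict_iff hstab μ).2 h1)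
    ((pure_restrict_iff hstab ν).2 h2) LinearMap.id (fun _ _ => rfl) (fun _ _ => trivial)
  rw [eq_bot_iff]
  intro x hx
  have := h0 ⟨x, hx⟩ trivial
  simpa using congrArg Subtype.val this

lemma mapQ_iterate (Q : Submodule L N) (hQ : Q ≤ Q.comap F) (r : ℤ) (s : ℕ) (x : N) :
    tw (Q.mapQ Q F hQ) r s (Q.mkQ x) = Q.mkQ (tw F r s x) := by
  rw [tw_apply, tw_apply]
  simp only [P, map_smul]
  congr 1
  induction s with
  | zero => rfl
  | succ s ih => rw [Function.iterate_succ_apply', Function.iterate_succ_apply', ih]; rfl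

lemma pure_mapQ (Q : Submodule L N) (hQ : Q ≤ Q.comap F) {μ : ℚ} {R : Submodule L N}
    (hR : Pure F μ R) : Pure (Q.mapQ Q F hQ) μ (R.map Q.mkQ) := by
  obtain ⟨M, r, s, hs, hμ, hfg, hsp, him⟩ := hR
  refine ⟨M.map (Q.mkQ.restrictScalars W), r, s, hs, hμ, hfg.map _, ?_, ?_⟩
  · rw [← hsp, Submodule.map_span]; rfl
  · rw [Submodule.map_coe, ← Set.image_comp]
    conv_rhs => rw [← him, ← Set.image_comp]
    exact Set.image_congr fun x _ => mapQ_iterate Q hQ r s x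

include hτ in
lemma mapQ_injective [Module.Finite L N] (hF : Function.Injective F) (Q : Submodule L N)
    (hQ : Q ≤ Q.comap F) : Function.Injective (Q.mapQ Q F hQ) := by
  rw [injective_iff_map_eq_zero]
  intro a ha
  obtain ⟨x, rfl⟩ := Submodule.Quotient.mk_surjective _ a
  rw [Submodule.mapQ_apply, Submodule.Quotient.mk_eq_zero] at ha
  rw [Submodule.Quotient.mk_eq_zero]
  exact stable_preimage hτ hF (Q := Q) (fun y hy => hQ hy) ha

include hτ in
theorem indep_finset [Module.Finite L N] (hF : Function.Injective F) (S : Finset ℚ) :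
    ∀ μ ∉ S, slopePart F μ ⊓ S.sup (slopePart F) = ⊥ := by
  classical
  induction S using Finset.induction with
  | empty => intro μ _; simp
  | insert ν S hν ih =>
    intro μ hμ
    rw [Finset.mem_insert, not_or] at hμ
    rw [Finset.sup_insert]
    set Q := S.sup (slopePart F) with hQdef
    have hQ : Q ≤ Q.comap F := by
      refine Finset.sup_le fun i hi x hx => ?_
      exact Finset.le_sup (f := slopePart F) hi ((slopePart_mem hτ i).1 x hx)
    have hstab : ∀ σ, ((slopePart F σ).map Q.mkQ) ∈ PureSet (Q.mapQ Q F hQ) σ := fun σ =>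
      ⟨by rintro _ ⟨x, hx, rfl⟩; exact ⟨F x, (slopePart_mem hτ σ).1 x hx, rfl⟩,
        pure_mapQ Q hQ (slopePart_mem hτ σ).2⟩
    have hd := pure_disjoint hτ (mapQ_injective hτ hF Q hQ) hμ.1 (hstab μ) (hstab ν)
    rw [eq_bot_iff]
    rintro x ⟨hx, hx'⟩
    obtain ⟨a, ha, b, hb, rfl⟩ := Submodule.mem_sup.1 hx'
    have h1 : Q.mkQ (a + b) ∈ (slopePart F μ).map Q.mkQ ⊓ (slopePart F ν).map Q.mkQ := by
      refine ⟨⟨_, hx, rfl⟩, ⟨a, ha, ?_⟩⟩
      rw [map_add, Submodule.mkQ_apply, Submodule.mkQ_apply, (Submodule.Quotient.mk_eq_zero Q).2 hb, add_zero]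
    rw [hd, Submodule.mem_bot, Submodule.mkQ_apply, Submodule.Quotient.mk_eq_zero] at h1
    have := ih μ hμ.2
    rw [eq_bot_iff] at this
    exact this ⟨hx, h1⟩

include hτ in
theorem slope_indep [Module.Finite L N] (hF : Function.Injective F) :
    iSupIndep (fun μ : ℚ => slopePart F μ) := by
  classical
  intro μ
  rw [Submodule.disjoint_def]
  intro x hx hx'
  rw [iSup_subtype'] at hx'
  obtain ⟨S, hS⟩ := Submodule.mem_iSup_iff_exists_finset.1 hx'
  have hle : (⨆ i ∈ S, slopePart F (i : {j : ℚ // j ≠ μ})) ≤ (S.image Subtype.val).sup (slopePart F) :=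
    iSup₂_le fun i hi => Finset.le_sup (f := slopePart F) (Finset.mem_image_of_mem _ hi)
  have hd := indep_finset hτ hF (S.image Subtype.val) μ (by
    simp only [Finset.mem_image, not_exists, not_and]
    exact fun i _ => i.2)
  rw [eq_bot_iff] at hd
  exact (Submodule.mem_bot _).1 (hd ⟨hx, hle hS⟩)

end LeadIsoc
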