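import Groth.Agent.Lead.Isoc.Basic

/-! Orders, first slopes, effectivity, rationality. -/

noncomputable section

open scoped Pointwise
open Isoc Filter Topology

universe u v w

namespace LeadIsoc

variable {p : ℕ} [Fact p.Prime] {k : Type u} [Field k] [CharP k p] [PerfectRing k p]

local notation "W" => WittVector p k
local notation "L" => FractionRing (WittVector p k)
local notation "ι" => algebraMap (WittVector p k) (FractionRing (WittVector p k))
local notation "π" => (WittVector.constantCoeff : WittVector p k →+* k)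

variable {N : Type v} [AddCommGroup N] [Module (WittVector p k) N] [Module (FractionRing (WittVector p k)) N]
  [IsScalarTower (WittVector p k) (FractionRing (WittVector p k)) N]
  [Module.Finite (FractionRing (WittVector p k)) N]
variable {τ : FractionRing (WittVector p k) →+* FractionRing (WittVector p k)}

/-- Residue coordinates with respect to a lattice basis. -/
structure Co (M : Submodule (WittVector p k) N) where
  toFun : M →+ (Fin (Module.finrank (FractionRing (WittVector p k)) N) → k)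
  smul : ∀ (w : WittVector p k) (x : M), toFun (w • x) = w.coeff 0 • toFun x
  surj : Function.Surjective toFun
  ker : ∀ x : M, toFun x = 0 ↔ P (p := p) (k := k) (-1) (x : N) ∈ M

lemma exists_co {M : Submodule W N} (hM : M.IsLattice L) : Nonempty (Co M) := by
  classical
  obtain ⟨B, hB⟩ := exists_basis hM
  choose w hw using fun x : M => (hB x.1).1 x.2
  refine ⟨⟨{ toFun := fun x i => π (w x i), map_zero' := ?_, map_add' := ?_ }, ?_, ?_, ?_⟩⟩
  · funext i
    have : w 0 i = 0 := ι_inj (by rw [← hw, map_zero]; simp)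
    simp [this]
  · intro x y
    funext i
    have : w (x + y) i = w x i + w y i := ι_inj (by rw [map_add, ← hw, ← hw, ← hw]; simp)
    show π (w (x + y) i) = π (w x i) + π (w y i)
    rw [this, map_add]
  · intro c x
    funext i
    have : w (c • x) i = c * w x i := ι_inj (by
      rw [map_mul, ← hw, ← hw, Submodule.coe_smul, ← ι_smul, map_smul]; simp [Algebra.smul_def])
    show π (w (c • x) i) = π c * π (w x i)
    rw [this, map_mul]
  · intro c
    choose a ha using fun i => WittVector.constantCoeff_surjective p (c i)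
    have hmem : (∑ i, ι (a i) • B i) ∈ M := (hB _).2 fun i => ⟨a i, by rw [B.repr_sum_self]⟩
    refine ⟨⟨_, hmem⟩, funext fun i => ?_⟩
    have : w ⟨_, hmem⟩ i = a i := ι_inj (by rw [← hw]; simp only; rw [B.repr_sum_self])
    simp only [AddMonoidHom.coe_mk, ZeroHom.coe_mk, this, ha]
  · intro x
    simp only [AddMonoidHom.coe_mk, ZeroHom.coe_mk, funext_iff, Pi.zero_apply, WittVector.constantCoeff_apply]
    constructor
    · intro h
      rw [hB]
      intro i
      obtain ⟨c, hc⟩ := ι_p_dvd.2 (h i)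
      refine ⟨c, ?_⟩
      rw [P, map_smul, Finsupp.smul_apply, smul_eq_mul, hw, hc, map_mul, map_natCast, ← mul_assoc,
        zpow_neg_one, inv_mul_cancel₀ pL_ne, one_mul]
    · intro h i
      obtain ⟨c, hc⟩ := (hB _).1 h i
      rw [P, map_smul, Finsupp.smul_apply, smul_eq_mul, hw] at hc
      apply ι_p_dvd.1
      refine ⟨c, ι_inj ?_⟩
      rw [map_mul, map_natCast, ← hc, zpow_neg_one, ← mul_assoc, mul_inv_cancel₀ pL_ne, one_mul]

/-- Residue image of a submodule. -/
def Co.sub {M : Submodule W N} (C : Co M) (X : Submodule W N) : Submodule k (Fin (Module.finrank L N) → k) where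
  carrier := {c | ∃ x : M, (x : N) ∈ X ∧ C.toFun x = c}
  zero_mem' := ⟨0, X.zero_mem, map_zero _⟩
  add_mem' := by
    rintro _ _ ⟨a, ha, rfl⟩ ⟨b, hb, rfl⟩
    exact ⟨a + b, X.add_mem ha hb, map_add _ _ _⟩
  smul_mem' := by
    rintro c _ ⟨a, ha, rfl⟩
    obtain ⟨t, rfl⟩ := WittVector.constantCoeff_surjective p c
    exact ⟨t • a, X.smul_mem _ ha, by rw [C.smul, WittVector.constantCoeff_apply]⟩

lemma Co.sub_mono {M : Submodule W N} (C : Co M) {X Y : Submodule W N} (h : X ≤ Y) : C.sub X ≤ C.sub Y :=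
  fun _ ⟨x, hx, hc⟩ => ⟨x, h hx, hc⟩

lemma Co.mem_of_sub_le {M : Submodule W N} (C : Co M) {X Y : Submodule W N} (h : C.sub X ≤ C.sub Y)
    {x : N} (hxM : x ∈ M) (hx : x ∈ X) : ∃ y ∈ Y, P (p := p) (k := k) (-1) (x - y) ∈ M := by
  obtain ⟨y, hy, hyx⟩ := h ⟨⟨x, hxM⟩, hx, rfl⟩
  refine ⟨y, hy, ?_⟩
  have : C.toFun (⟨x, hxM⟩ - y) = 0 := by rw [map_sub, hyx, sub_self]
  exact (C.ker _).1 this

lemma fg_finset_sup {α : Type*} (s : Finset α) {f : α → Submodule W N} (h : ∀ a ∈ s, (f a).FG) :
    (s.sup f).FG := by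
  classical
  induction s using Finset.induction with
  | empty => simpa using Submodule.fg_bot
  | insert a s _ ih =>
    rw [Finset.sup_insert]
    exact (h a (Finset.mem_insert_self a s)).sup (ih fun b hb => h b (Finset.mem_insert_of_mem hb))

/-! ### Orders -/

lemma iterate_succ_tw (F : N →ₛₗ[τ] N) (r r' : ℤ) (s s' : ℕ) (x : N) :
    tw F (r + r') (s + s') x = tw F r s (tw F r' s' x) := by
  rw [tw_apply, tw_apply, tw_apply, iterate_P, P_P, ← Function.iterate_add_apply]
  congr 1; ring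

lemma mapsTo_mono {F : N →ₛₗ[τ] N} {M : Submodule W N} {r r' : ℤ} {s : ℕ} (h : r' ≤ r)
    (hm : Set.MapsTo (tw F r s) M M) : Set.MapsTo (tw F r' s) M M :=
  fun x hx => P_mem_mono (neg_le_neg h) (hm hx)

variable (hτ : Tw τ)

include hτ in
lemma exists_mapsTo (F : N →ₛₗ[τ] N) {M : Submodule W N} (hM : M.IsLattice L) (n : ℕ) :
    ∃ r : ℤ, Set.MapsTo (tw F r n) M M := by
  obtain ⟨s, hs⟩ := hM.fg
  classical
  have hfg : (img (hτ.pow n) (Isoc.iter F n) M).FG := by
    refine ⟨s.image (fun x => F^[n] x), le_antisymm (Submodule.span_le.2 ?_) ?_⟩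
    · intro y hy
      obtain ⟨x, hx, rfl⟩ := Finset.mem_image.1 hy
      exact ⟨x, by rw [SetLike.mem_coe, ← hs]; exact Submodule.subset_span hx, rfl⟩
    · rintro _ ⟨x, hx, rfl⟩
      rw [SetLike.mem_coe, ← hs] at hx
      induction hx using Submodule.span_induction with
      | mem y hy => exact Submodule.subset_span (Finset.mem_image.2 ⟨y, hy, rfl⟩)
      | zero => rw [map_zero]; exact zero_mem _
      | add a b _ _ ha hb => rw [map_add]; exact add_mem ha hb
      | smul t y _ hy =>
        obtain ⟨t', ht'⟩ := map_W (hτ.pow n) (Isoc.iter F n) t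
        rw [ht']; exact Submodule.smul_mem _ _ hy
  obtain ⟨c, hc⟩ := absorb (p := p) (k := k) hM.span_eq_top hfg
  refine ⟨-(c : ℤ), fun x hx => ?_⟩
  rw [SetLike.mem_coe, tw_apply, neg_neg]
  exact hc _ ⟨x, hx, rfl⟩

include hτ in
lemma exists_ord [Nontrivial N] {F : N →ₛₗ[τ] N} (hF : Function.Injective F)
    {M : Submodule W N} (hM : M.IsLattice L) (n : ℕ) : ∃ r, IsOrd M F n r := by
  obtain ⟨r₀, hr₀⟩ := exists_mapsTo hτ F hM n
  have hbdd : ∃ b : ℤ, ∀ r, Set.MapsTo (tw F r n) M M → r ≤ b := by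
    refine ⟨(od (Isoc.iter F n)).natAbs, fun r hr => ?_⟩
    have h := od_nonneg (hτ.pow n) (tw_injective hF r n) hM hr
    rw [od_tw hτ hF, ← od_iter hτ hF] at h
    have hh : (1 : ℤ) ≤ Module.finrank L N := by exact_mod_cast Module.finrank_pos (R := L) (M := N)
    by_contra hc
    push_neg at hc
    nlinarith [Int.le_natAbs (a := od (Isoc.iter F n))]
  obtain ⟨r, hr, hmax⟩ := Int.exists_greatest_of_bdd hbdd ⟨r₀, hr₀⟩
  refine ⟨r, (latImg_le_pPow_iff F n r M).2 hr, fun h => ?_⟩
  have := hmax _ ((latImg_le_pPow_iff F n (r + 1) M).1 h)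
  omega

lemma ord_iff (F : N →ₛₗ[τ] N) {M : Submodule W N} {n : ℕ} {r : ℤ} :
    IsOrd M F n r ↔ Set.MapsTo (tw F r n) M M ∧ ¬ Set.MapsTo (tw F (r + 1) n) M M := by
  rw [IsOrd, latImg_le_pPow_iff, latImg_le_pPow_iff]

lemma ord_le {F : N →ₛₗ[τ] N} {M : Submodule W N} {n : ℕ} {r r' : ℤ} (h : IsOrd M F n r)
    (h' : Set.MapsTo (tw F r' n) M M) : r' ≤ r := by
  by_contra hc
  push_neg at hc
  exact ((ord_iff F).1 h).2 (mapsTo_mono hc h')

lemma ord_unique {F : N →ₛₗ[τ] N} {M : Submodule W N} {n : ℕ} {r r' : ℤ} (h : IsOrd M F n r)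
    (h' : IsOrd M F n r') : r = r' :=
  le_antisymm (ord_le h' ((ord_iff F).1 h).1) (ord_le h ((ord_iff F).1 h').1)

lemma mapsTo_add {F : N →ₛₗ[τ] N} {M : Submodule W N} {m n : ℕ} {r r' : ℤ}
    (h : Set.MapsTo (tw F r m) M M) (h' : Set.MapsTo (tw F r' n) M M) :
    Set.MapsTo (tw F (r + r') (m + n)) M M := fun x hx => by
  rw [SetLike.mem_coe, iterate_succ_tw]; exact h (h' hx)

lemma mapsTo_mul {F : N →ₛₗ[τ] N} {M : Submodule W N} {n : ℕ} {r : ℤ}
    (h : Set.MapsTo (tw F r n) M M) (j : ℕ) : Set.MapsTo (tw F (r * j) (n * j)) M M := fun x hx => by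
  have := h.iterate j hx
  rw [tw_iterate] at this
  exact this

include hτ in
lemma exists_slope [Nontrivial N] {F : N →ₛₗ[τ] N} (hF : Function.Injective F)
    {M : Submodule W N} (hM : M.IsLattice L) :
    ∃ o : ℕ → ℤ, (∀ n, IsOrd M F n (o n)) ∧ ∃ lam : ℝ,
      Tendsto (fun n : ℕ => (o n : ℝ) / n) atTop (𝓝 lam) ∧ ∀ n, 0 < n → (o n : ℝ) / n ≤ lam := by
  choose o ho using exists_ord hτ hF hM
  refine ⟨o, ho, ?_⟩
  set u : ℕ → ℝ := fun n => -(o n : ℝ) with hu
  have hsub : Subadditive u := by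
    intro m n
    have := ord_le (ho (m + n)) (mapsTo_add ((ord_iff F).1 (ho m)).1 ((ord_iff F).1 (ho n)).1)
    simp only [hu]
    have h2 : ((o m : ℝ) + o n) ≤ o (m + n) := by exact_mod_cast this
    linarith
  have hh : (1 : ℝ) ≤ Module.finrank L N := by exact_mod_cast Module.finrank_pos (R := L) (M := N)
  have hbdd : BddBelow (Set.range fun n => u n / n) := by
    refine ⟨-|((od F : ℝ))|, ?_⟩
    rintro _ ⟨n, rfl⟩
    rcases Nat.eq_zero_or_pos n with rfl | hn
    · simp
    · have h := od_nonneg (hτ.pow n) (tw_injective hF (o n) n) hM ((ord_iff F).1 (ho n)).1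
      rw [od_tw hτ hF] at h
      have h' : (o n : ℝ) * Module.finrank L N ≤ n * (od F : ℝ) := by exact_mod_cast (by linarith : o n * (Module.finrank L N : ℤ) ≤ n * od F)
      rw [le_div_iff₀ (by exact_mod_cast hn)]
      simp only [hu]
      rcases le_or_gt (o n : ℝ) 0 with hneg | hpos
      · have hn' : (0 : ℝ) ≤ n := Nat.cast_nonneg n
        nlinarith [abs_nonneg (od F : ℝ)]
      · have hn' : (0 : ℝ) ≤ n := Nat.cast_nonneg n
        nlinarith [le_abs_self (od F : ℝ)]
  refine ⟨-hsub.lim, ?_, fun n hn => ?_⟩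
  · have := (hsub.tendsto_lim hbdd).neg
    simpa [hu, neg_div] using this
  · have := hsub.lim_le_div hbdd hn.ne'
    simp only [hu, neg_div] at this
    linarith

include hτ in
/-- Comparison of two lattices. -/
lemma ord_compare {F : N →ₛₗ[τ] N} {M M' : Submodule W N} (hM : M.IsLattice L) (hM' : M'.IsLattice L) :
    ∃ c : ℕ, ∀ n r, Set.MapsTo (tw F r n) M M → Set.MapsTo (tw F (r - c) n) M' M' := by
  obtain ⟨c₁, hc₁⟩ := absorb (p := p) (k := k) hM.span_eq_top hM'.fg
  obtain ⟨c₂, hc₂⟩ := absorb (p := p) (k := k) hM'.span_eq_top hM.fg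
  refine ⟨c₁ + c₂, fun n r h x hx => ?_⟩
  have := hc₂ _ (h (hc₁ x hx))
  rw [tw_apply, iterate_P, P_P, P_P] at this
  rw [SetLike.mem_coe, tw_apply]
  convert this using 2
  push_cast; ring

include hτ in
/-- Every lattice computes the first slope. -/
lemma slope_any [Nontrivial N] {F : N →ₛₗ[τ] N} (hF : Function.Injective F) {lam : ℝ}
    (hlam : IsFirstSlope F lam) {M : Submodule W N} (hM : M.IsLattice L) :
    ∃ o : ℕ → ℤ, (∀ n, IsOrd M F n (o n)) ∧ Tendsto (fun n : ℕ => (o n : ℝ) / n) atTop (𝓝 lam) ∧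
      ∀ n, 0 < n → (o n : ℝ) / n ≤ lam := by
  obtain ⟨M₀, hM₀, o₀, ho₀, ht₀⟩ := hlam
  obtain ⟨o, ho, l, ht, hle⟩ := exists_slope hτ hF hM
  suffices l = lam by subst this; exact ⟨o, ho, ht, hle⟩
  obtain ⟨c, hc⟩ := ord_compare hτ (F := F) hM hM₀
  obtain ⟨c', hc'⟩ := ord_compare hτ (F := F) hM₀ hM
  have hz : Tendsto (fun n : ℕ => ((o n : ℝ) / n) - (o₀ n : ℝ) / n) atTop (𝓝 0) := by
    apply squeeze_zero_norm' (a := fun n : ℕ => ((c + c' : ℕ) : ℝ) / n)
    · refine eventually_atTop.2 ⟨1, fun n hn => ?_⟩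
      have h1 := ord_le (ho₀ n hn) (hc n _ ((ord_iff F).1 (ho n)).1)
      have h2 := ord_le (ho n) (hc' n _ ((ord_iff F).1 (ho₀ n hn)).1)
      rw [← sub_div, Real.norm_eq_abs, abs_div, Nat.abs_cast]
      apply div_le_div_of_nonneg_right _ (Nat.cast_nonneg n)
      have h1' : (o n : ℝ) - c ≤ o₀ n := by exact_mod_cast h1
      have h2' : (o₀ n : ℝ) - c' ≤ o n := by exact_mod_cast h2
      rw [abs_le]
      push_cast
      constructor <;> linarith [Nat.cast_nonneg (α := ℝ) c, Nat.cast_nonneg (α := ℝ) c']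
    · exact tendsto_const_div_atTop_nhds_zero_nat _
  have := tendsto_nhds_unique (ht.sub ht₀) hz
  linarith

lemma nontrivial_of_slope {F : N →ₛₗ[τ] N} {lam : ℝ} (h : IsFirstSlope F lam) : Nontrivial N := by
  obtain ⟨M, -, o, ho, -⟩ := h
  by_contra hc
  rw [not_nontrivial_iff_subsingleton] at hc
  apply ((ord_iff F).1 (ho 1 le_rfl)).2
  intro x _
  rw [SetLike.mem_coe, Subsingleton.elim (tw F (o 1 + 1) 1 x) 0]
  exact M.zero_mem

include hτ in
lemma slope_tw {F : N →ₛₗ[τ] N} (hF : Function.Injective F) {lam : ℝ} (hlam : IsFirstSlope F lam)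
    (r : ℤ) (s : ℕ) : IsFirstSlope (tw F r s) ((s : ℝ) * lam - r) := by
  haveI := nontrivial_of_slope hlam
  obtain ⟨M, hM, -⟩ := id hlam
  obtain ⟨o, ho, ht, -⟩ := slope_any hτ hF hlam hM
  have key : ∀ (n : ℕ) (q : ℤ), Set.MapsTo (tw (tw F r s) q n) M M ↔
      Set.MapsTo (tw F (q + r * n) (s * n)) M M := by
    intro n q
    have : ∀ x, tw (tw F r s) q n x = tw F (q + r * n) (s * n) x := fun x => by
      rw [tw_apply, tw_iterate, P_P, tw_apply]; congr 1; ring
    exact ⟨fun h => h.congr (fun x _ => this x), fun h => h.congr (fun x _ => (this x).symm)⟩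
  refine ⟨M, hM, fun n => o (s * n) - r * n, fun n _ => ?_, ?_⟩
  · rw [ord_iff, key, key, sub_add_cancel, show o (s * n) - r * n + 1 + r * n = o (s * n) + 1 by ring]
    exact (ord_iff F).1 (ho (s * n))
  · rcases Nat.eq_zero_or_pos s with rfl | hs
    · have h0 : o 0 = 0 := by
        refine le_antisymm ?_ (ord_le (ho 0) (fun x hx => by simpa [tw_apply] using hx))
        by_contra hc
        push_neg at hc
        have h1 : Set.MapsTo (tw F 1 0) M M := mapsTo_mono hc ((ord_iff F).1 (ho 0)).1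
        obtain ⟨x, hx⟩ := exists_ne (0 : N)
        obtain ⟨c, hc'⟩ := exists_P_mem (p := p) (k := k) hM.span_eq_top x
        apply hx
        apply P_inj (p := p) (k := k) (c : ℤ)
        rw [show P (p := p) (k := k) (c : ℤ) (0 : N) = 0 from smul_zero _]
        refine separated hM fun n => ?_
        induction n with
        | zero => simpa using hc'
        | succ n ih =>
          have := h1 ih
          rw [SetLike.mem_coe, tw_apply, Function.iterate_zero_apply, P_P] at this
          convert this using 2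
          push_cast; ring
      simp only [Nat.zero_mul, h0, Nat.cast_zero, zero_mul, zero_sub]
      apply tendsto_const_nhds.congr'
      refine eventually_atTop.2 ⟨1, fun n hn => ?_⟩
      have : (n : ℝ) ≠ 0 := by exact_mod_cast (by omega : n ≠ 0)
      push_cast
      field_simp
    · have h1 : Tendsto (fun n : ℕ => s * n) atTop atTop :=
        tendsto_atTop_mono (fun n => Nat.le_mul_of_pos_left n hs) tendsto_id
      have h2 := ((ht.comp h1).const_mul (s : ℝ)).sub_const (r : ℝ)
      apply h2.congr'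
      refine eventually_atTop.2 ⟨1, fun n hn => ?_⟩
      have : (n : ℝ) ≠ 0 := by exact_mod_cast (by omega : n ≠ 0)
      have : (s : ℝ) ≠ 0 := by exact_mod_cast hs.ne'
      simp only [Function.comp_apply]
      push_cast
      field_simp

include hτ in
lemma slope_nonneg [Nontrivial N] {G : N →ₛₗ[τ] N} (hG : Function.Injective G) {lam : ℝ}
    (hlam : IsFirstSlope G lam) {M : Submodule W N} (hM : M.IsLattice L) (h : Set.MapsTo G M M) :
    0 ≤ lam := by
  obtain ⟨o, ho, -, hle⟩ := slope_any hτ hG hlam hM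
  have h1 : Set.MapsTo (tw G 0 1) M M := fun x hx => by simpa [tw_apply] using h hx
  have h2 : (0 : ℝ) ≤ o 1 := by exact_mod_cast ord_le (ho 1) h1
  have := hle 1 one_pos
  simp at this
  linarith

include hτ in
/-- A lattice stable under a map, from one stable under an iterate up to `Σ`. -/
lemma stable_sum {G : N →ₛₗ[τ] N} {M : Submodule W N} (hM : M.IsLattice L) {n : ℕ} (hn : 0 < n)
    (h : Set.MapsTo G^[n] M M) :
    ∃ M' : Submodule W N, M'.IsLattice L ∧ Set.MapsTo G M' M' := by
  set T := fun i : ℕ => img (hτ.pow i) (Isoc.iter G i) M with hT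
  refine ⟨(Finset.range n).sup T, ?_, ?_⟩
  · haveI := hM
    refine Submodule.IsLattice.of_le_of_isLattice_of_fg L (M := M) ?_ ?_
    · refine le_trans ?_ (Finset.le_sup (f := T) (Finset.mem_range.2 hn))
      exact fun x hx => ⟨x, hx, rfl⟩
    · apply fg_finset_sup
      intro i _
      obtain ⟨s, hs⟩ := hM.fg
      classical
      refine ⟨s.image (fun x => G^[i] x), le_antisymm (Submodule.span_le.2 ?_) ?_⟩
      · intro y hy
        obtain ⟨x, hx, rfl⟩ := Finset.mem_image.1 hy
        exact ⟨x, by rw [SetLike.mem_coe, ← hs]; exact Submodule.subset_span hx, rfl⟩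
      · rintro _ ⟨x, hx, rfl⟩
        rw [SetLike.mem_coe, ← hs] at hx
        induction hx using Submodule.span_induction with
        | mem y hy => exact Submodule.subset_span (Finset.mem_image.2 ⟨y, hy, rfl⟩)
        | zero => rw [map_zero]; exact zero_mem _
        | add a b _ _ ha hb => rw [map_add]; exact add_mem ha hb
        | smul t y _ hy =>
          obtain ⟨t', ht'⟩ := map_W (hτ.pow i) (Isoc.iter G i) t
          rw [ht']; exact Submodule.smul_mem _ _ hy
  · set X := (Finset.range n).sup T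
    let Y : Submodule W N :=
      { carrier := {x | G x ∈ X}
        zero_mem' := by simp
        add_mem' := fun {a b} ha hb => by simp only [Set.mem_setOf_eq, map_add] at *; exact X.add_mem ha hb
        smul_mem' := fun t x hx => by
          obtain ⟨t', ht'⟩ := map_W hτ G t
          simp only [Set.mem_setOf_eq] at *
          rw [ht']; exact X.smul_mem _ hx }
    intro x hx
    have : X ≤ Y := by
      apply Finset.sup_le
      intro i hi
      rintro _ ⟨y, hy, rfl⟩
      show G (G^[i] y) ∈ X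
      rw [← Function.iterate_succ_apply' G i y, Nat.succ_eq_add_one]
      by_cases hi' : i + 1 < n
      · exact Finset.le_sup (f := T) (Finset.mem_range.2 hi') ⟨y, hy, rfl⟩
      · have : i + 1 = n := by have := Finset.mem_range.1 hi; omega
        rw [this]
        exact Finset.le_sup (f := T) (Finset.mem_range.2 hn) ⟨_, h hy, rfl⟩
    exact this hx

include hτ in
/-- The lemma: `G^{h+1} M ⊆ p⁻¹ M` gives a stable lattice. -/
theorem effective_of_succ {G : N →ₛₗ[τ] N} {M : Submodule W N} (hM : M.IsLattice L)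
    (h : Set.MapsTo (tw G (-1) (Module.finrank L N + 1)) M M) :
    ∃ M' : Submodule W N, M'.IsLattice L ∧ Set.MapsTo G M' M' := by
  classical
  set h₀ := Module.finrank L N with hh₀
  set T := fun i : ℕ => img (hτ.pow i) (Isoc.iter G i) M with hT
  set M₁ := (Finset.range (h₀ + 1)).sup T with hM₁
  have hfgT : ∀ i, (T i).FG := by
    intro i
    obtain ⟨s, hs⟩ := hM.fg
    refine ⟨s.image (fun x => G^[i] x), le_antisymm (Submodule.span_le.2 ?_) ?_⟩
    · intro y hy
      obtain ⟨x, hx, rfl⟩ := Finset.mem_image.1 hy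
      exact ⟨x, by rw [SetLike.mem_coe, ← hs]; exact Submodule.subset_span hx, rfl⟩
    · rintro _ ⟨x, hx, rfl⟩
      rw [SetLike.mem_coe, ← hs] at hx
      induction hx using Submodule.span_induction with
      | mem y hy => exact Submodule.subset_span (Finset.mem_image.2 ⟨y, hy, rfl⟩)
      | zero => rw [map_zero]; exact zero_mem _
      | add a b _ _ ha hb => rw [map_add]; exact add_mem ha hb
      | smul t y _ hy =>
        obtain ⟨t', ht'⟩ := map_W (hτ.pow i) (Isoc.iter G i) t
        rw [ht']; exact Submodule.smul_mem _ _ hy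
  have hle0 : M ≤ M₁ := le_trans (fun x hx => ⟨x, hx, rfl⟩ : M ≤ T 0)
    (Finset.le_sup (f := T) (Finset.mem_range.2 (by omega)))
  have hM₁lat : M₁.IsLattice L := by
    haveI := hM
    exact Submodule.IsLattice.of_le_of_isLattice_of_fg L hle0 (fg_finset_sup _ fun i _ => hfgT i)
  -- `M₂ = p⁻¹ M₁`
  let M₂ : Submodule W N :=
    { carrier := {x | P (p := p) (k := k) 1 x ∈ M₁}
      zero_mem' := by simp [P]
      add_mem' := fun {a b} ha hb => by simp only [Set.mem_setOf_eq, P_add] at *; exact M₁.add_mem ha hb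
      smul_mem' := fun t x hx => by simp only [Set.mem_setOf_eq, P_smul_W] at *; exact M₁.smul_mem _ hx }
  have hM₂ : ∀ x, x ∈ M₂ ↔ P (p := p) (k := k) 1 x ∈ M₁ := fun _ => Iff.rfl
  have hup : ∀ i, i ≤ h₀ + 1 → ∀ x ∈ M₁, G^[i] x ∈ M₂ := by
    intro i hi
    let Y : Submodule W N :=
      { carrier := {x | G^[i] x ∈ M₂}
        zero_mem' := by
          show Isoc.iter G i 0 ∈ M₂
          rw [map_zero]; exact zero_mem _
        add_mem' := fun {a b} (ha : Isoc.iter G i a ∈ M₂) (hb : Isoc.iter G i b ∈ M₂) => by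
          show Isoc.iter G i (a + b) ∈ M₂
          rw [map_add]; exact M₂.add_mem ha hb
        smul_mem' := fun t x (hx : Isoc.iter G i x ∈ M₂) => by
          show Isoc.iter G i (t • x) ∈ M₂
          obtain ⟨t', ht'⟩ := map_W (hτ.pow i) (Isoc.iter G i) t
          rw [ht']; exact M₂.smul_mem _ hx }
    show M₁ ≤ Y
    apply Finset.sup_le
    intro j hj
    rintro _ ⟨y, hy, rfl⟩
    show G^[i] (G^[j] y) ∈ M₂
    rw [← Function.iterate_add_apply]
    have hjr := Finset.mem_range.1 hj
    by_cases hij : i + j ≤ h₀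
    · rw [hM₂]
      refine P_mem_mono (r := 0) (by norm_num) ?_
      rw [P_zero]
      exact Finset.le_sup (f := T) (Finset.mem_range.2 (by omega)) ⟨y, hy, rfl⟩
    · have h1 := h hy
      rw [SetLike.mem_coe, tw_apply, neg_neg] at h1
      rw [show i + j = (i + j - (h₀ + 1)) + (h₀ + 1) by omega, Function.iterate_add_apply, hM₂,
        ← iterate_P]
      exact Finset.le_sup (f := T) (Finset.mem_range.2 (by omega)) ⟨_, h1, rfl⟩
  set R := fun i : ℕ => (Finset.range (i + 1)).sup (fun j => img (hτ.pow j) (Isoc.iter G j) M₁) with hR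
  have hR2 : ∀ i, i ≤ h₀ + 1 → R i ≤ M₂ := fun i hi => Finset.sup_le fun j hj => by
    rintro _ ⟨y, hy, rfl⟩
    exact hup j (by have := Finset.mem_range.1 hj; omega) y hy
  have hR0 : ∀ i, M₁ ≤ R i := fun i => le_trans (fun x hx => ⟨x, hx, rfl⟩ : M₁ ≤ img (hτ.pow 0) (Isoc.iter G 0) M₁)
    (Finset.le_sup (f := fun j => img (hτ.pow j) (Isoc.iter G j) M₁) (Finset.mem_range.2 (Nat.succ_pos i)))
  have hRlat : ∀ i, i ≤ h₀ + 1 → (R i).IsLattice L := by
    intro i hi
    haveI := hM₁lat
    obtain ⟨c, hc⟩ := absorb (p := p) (k := k) hM₁lat.span_eq_top hM₁lat.fg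
    refine Submodule.IsLattice.of_le_of_isLattice_of_fg L (hR0 i) ?_
    haveI : IsNoetherian W M₂ := by
      haveI : IsNoetherian W M₁ := isNoetherian_of_fg_of_noetherian _ hM₁lat.fg
      let e : M₂ →ₗ[W] M₁ :=
        { toFun := fun x => ⟨P (p := p) (k := k) 1 x.1, x.2⟩
          map_add' := fun a b => Subtype.ext (P_add _ _ _)
          map_smul' := fun a b => Subtype.ext (P_smul_W _ _ _) }
      exact isNoetherian_of_injective e (fun a b hab => Subtype.ext (P_inj (p := p) (k := k) 1 (congrArg Subtype.val hab)))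
    haveI : IsNoetherian W (R i) := isNoetherian_of_le (hR2 i hi)
    exact Module.Finite.iff_fg.1 inferInstance
  -- residues of `p R i` in `M₁`
  obtain ⟨C⟩ := exists_co hM₁lat
  let Q : ℕ → Submodule W N := fun i =>
    { carrier := {x | P (p := p) (k := k) (-1) x ∈ R i}
      zero_mem' := by simp [P]
      add_mem' := fun {a b} ha hb => by simp only [Set.mem_setOf_eq, P_add] at *; exact (R i).add_mem ha hb
      smul_mem' := fun t x hx => by simp only [Set.mem_setOf_eq, P_smul_W] at *; exact (R i).smul_mem _ hx }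
  have hQ : ∀ i x, x ∈ Q i ↔ P (p := p) (k := k) (-1) x ∈ R i := fun _ _ => Iff.rfl
  obtain ⟨i, hi, hieq⟩ : ∃ i ≤ h₀, C.sub (Q (i + 1)) ≤ C.sub (Q i) := by
    by_contra hc
    push_neg at hc
    have : ∀ i ≤ h₀ + 1, i ≤ Module.finrank k (C.sub (Q i)) := by
      intro i
      induction i with
      | zero => intro _; exact Nat.zero_le _
      | succ i ih =>
        intro hi
        have hRR : R i ≤ R (i + 1) := Finset.sup_mono (Finset.range_mono (Nat.le_succ (i + 1)))
        have hmono : C.sub (Q i) ≤ C.sub (Q (i + 1)) := C.sub_mono fun x hx => hRR hx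
        have hlt : C.sub (Q i) < C.sub (Q (i + 1)) := lt_of_le_of_ne hmono fun he => hc i (by omega) he.ge
        have := Submodule.finrank_lt_finrank_of_lt hlt
        have := ih (by omega)
        omega
    have h1 := this (h₀ + 1) le_rfl
    have h2 := Submodule.finrank_le (C.sub (Q (h₀ + 1)))
    rw [Module.finrank_fin_fun] at h2
    omega
  have hkey : R (i + 1) ≤ R i := by
    intro x hx
    have hxM₁ : P (p := p) (k := k) 1 x ∈ M₁ := hR2 (i + 1) (by omega) hx
    obtain ⟨y, hy, hxy⟩ := C.mem_of_sub_le hieq hxM₁ (by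
      rw [hQ, P_P, neg_add_cancel, P_zero]; exact hx)
    rw [P_sub, P_P, neg_add_cancel, P_zero] at hxy
    rw [hQ] at hy
    have := (R i).add_mem (hR0 i hxy) hy
    rwa [sub_add_cancel] at this
  refine ⟨R i, hRlat i (by omega), fun x hx => hkey ?_⟩
  let Y : Submodule W N :=
    { carrier := {x | G x ∈ R (i + 1)}
      zero_mem' := by simp
      add_mem' := fun {a b} ha hb => by simp only [Set.mem_setOf_eq, map_add] at *; exact (R (i+1)).add_mem ha hb
      smul_mem' := fun t x hx => by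
        obtain ⟨t', ht'⟩ := map_W hτ G t
        simp only [Set.mem_setOf_eq] at *
        rw [ht']; exact (R (i+1)).smul_mem _ hx }
  have : R i ≤ Y := Finset.sup_le fun j hj => by
    rintro _ ⟨y, hy, rfl⟩
    show G (G^[j] y) ∈ R (i + 1)
    rw [← Function.iterate_succ_apply' G j y]
    exact Finset.le_sup (f := fun j => img (hτ.pow j) (Isoc.iter G j) M₁)
      (b := j + 1) (Finset.mem_range.2 (by have := Finset.mem_range.1 hj; omega)) ⟨y, hy, rfl⟩
  exact this hx

lemma comp_mapsTo_tw {F : N →ₛₗ[τ] N} {M : Submodule W N} {r q : ℤ} {s n : ℕ}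
    (h : Set.MapsTo (tw (tw F r s) q n) M M) : Set.MapsTo (tw F (q + r * n) (s * n)) M M :=
  h.congr fun x _ => by rw [tw_apply, tw_iterate, P_P, tw_apply]; congr 1; ring

include hτ in
lemma effective_of_gt [Nontrivial N] {G : N →ₛₗ[τ] N} (hG : Function.Injective G) {lam : ℝ}
    (hlam : IsFirstSlope G lam) (hgt : -1 / ((Module.finrank L N : ℝ) + 1) < lam) :
    ∃ M : Submodule W N, M.IsLattice L ∧ Set.MapsTo G M M := by
  set h₀ := Module.finrank L N
  obtain ⟨M, hM, -⟩ := id hlam
  obtain ⟨o, ho, ht, -⟩ := slope_any hτ hG hlam hM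
  have hmul : Tendsto (fun n : ℕ => (h₀ + 1) * n) atTop atTop :=
    tendsto_atTop_mono (fun n => Nat.le_mul_of_pos_left n (Nat.succ_pos _)) tendsto_id
  obtain ⟨n, hn, hn1⟩ := (((ht.comp hmul).eventually (eventually_gt_nhds hgt)).and
    (eventually_ge_atTop 1)).exists
  simp only [Function.comp_apply] at hn
  have hn0 : (0 : ℝ) < n := by exact_mod_cast hn1
  have hlow : -(n : ℤ) ≤ o ((h₀ + 1) * n) := by
    have h1 : (-(n : ℝ)) < o ((h₀ + 1) * n) := by
      rw [Nat.cast_mul, Nat.cast_add, Nat.cast_one, div_lt_div_iff₀ (by positivity) (by positivity)] at hn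
      have hh : (0 : ℝ) < (h₀ : ℝ) + 1 := by positivity
      by_contra hc
      push_neg at hc
      nlinarith
    have h2 : ((-(n : ℤ) : ℤ) : ℝ) < (o ((h₀ + 1) * n) : ℝ) := by push_cast; exact h1
    exact (Int.cast_lt.1 h2).le
  set H := tw G (-1) (h₀ + 1) with hH
  have hHn : Set.MapsTo H^[n] M M := fun x hx => by
    rw [SetLike.mem_coe, hH, tw_iterate]
    have := mapsTo_mono hlow ((ord_iff G).1 (ho _)).1 hx
    rw [SetLike.mem_coe, tw_apply] at this
    convert this using 2
    ring
  obtain ⟨M', hM', hmap⟩ := stable_sum (hτ.pow _) hM (by omega) hHn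
  exact effective_of_succ hτ hM' hmap

include hτ in
lemma effective_of_ge [Nontrivial N] {G : N →ₛₗ[τ] N} (hG : Function.Injective G) {lam : ℝ}
    (hlam : IsFirstSlope G lam) (hge : -1 / ((Module.finrank L N : ℝ) + 1) ≤ lam) :
    ∃ M : Submodule W N, M.IsLattice L ∧ Set.MapsTo G M M := by
  have h1 := slope_tw hτ hG hlam (-1) (Module.finrank L N + 1)
  obtain ⟨M, hM, hmap⟩ := effective_of_gt (hτ.pow _) (tw_injective hG _ _) h1 (by
    have hh : (0 : ℝ) < (Module.finrank L N : ℝ) + 1 := by positivity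
    have h2 : -1 ≤ ((Module.finrank L N : ℝ) + 1) * lam := by
      have := mul_le_mul_of_nonneg_left hge hh.le
      rwa [mul_div_cancel₀ _ hh.ne'] at this
    have h3 : -1 / ((Module.finrank L N : ℝ) + 1) < 0 := div_neg_of_neg_of_pos (by norm_num) hh
    push_cast
    linarith)
  exact effective_of_succ hτ hM hmap

include hτ in
theorem lattice_of_le_slope {F : N →ₛₗ[τ] N} (hF : Function.Injective F) {lam : ℝ}
    (hlam : IsFirstSlope F lam) {r : ℤ} {s : ℕ} (hrs : (r : ℝ) ≤ s * lam) :
    ∃ M : Submodule W N, M.IsLattice L ∧ Set.MapsTo (tw F r s) M M := by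
  haveI := nontrivial_of_slope hlam
  refine effective_of_ge (hτ.pow s) (tw_injective hF r s) (slope_tw hτ hF hlam r s) ?_
  have hh : (0 : ℝ) < (Module.finrank L N : ℝ) + 1 := by positivity
  have h3 : -1 / ((Module.finrank L N : ℝ) + 1) < 0 := div_neg_of_neg_of_pos (by norm_num) hh
  linarith

include hτ in
/-- Nilpotent residues vanish after `h` steps. -/
lemma nilpotent_step {G : N →ₛₗ[τ] N} {M : Submodule W N} (hM : M.IsLattice L)
    (hmap : Set.MapsTo G M M) {n : ℕ} (hn : ∀ x ∈ M, P (p := p) (k := k) (-1) (G^[n] x) ∈ M) :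
    ∀ x ∈ M, P (p := p) (k := k) (-1) (G^[Module.finrank L N] x) ∈ M := by
  set h₀ := Module.finrank L N
  obtain ⟨C⟩ := exists_co hM
  set U := fun i : ℕ => img (hτ.pow i) (Isoc.iter G i) M with hU
  have hdec : ∀ i, U (i + 1) ≤ U i := by
    rintro i _ ⟨x, hx, rfl⟩
    exact ⟨G x, hmap hx, (Function.iterate_succ_apply G i x).symm⟩
  have hkill : ∀ i, C.sub (U i) = ⊥ → ∀ x ∈ M, P (p := p) (k := k) (-1) (G^[i] x) ∈ M := by
    intro i hi x hx
    have hxi : G^[i] x ∈ M := hmap.iterate i hx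
    obtain ⟨y, hy, hyx⟩ := C.mem_of_sub_le (Y := ⊥) (X := U i) (by rw [hi]; exact bot_le) hxi ⟨x, hx, rfl⟩
    rw [Submodule.mem_bot] at hy
    subst hy
    rwa [sub_zero] at hyx
  have hstab : ∀ i, C.sub (U i) ≤ C.sub (U (i + 1)) → C.sub (U i) = ⊥ := by
    intro i hi
    have : ∀ j, C.sub (U i) ≤ C.sub (U (i + j)) := by
      intro j
      induction j with
      | zero => exact le_rfl
      | succ j ih =>
        intro c hc
        obtain ⟨z, hz, hzc⟩ := ih hc
        obtain ⟨x, hx, hxz⟩ := hz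
        -- write `G^i x` modulo `p` as `G^(i+1) x'`
        have hxi : G^[i] x ∈ M := hmap.iterate i hx
        obtain ⟨y, ⟨x', hx', hy'⟩, hxy⟩ := C.mem_of_sub_le hi hxi ⟨x, hx, rfl⟩
        have hxy' := hmap.iterate j hxy
        rw [iterate_P, show G^[j] (G^[i] x - y) = G^[j] (G^[i] x) - G^[j] y from map_sub (Isoc.iter G j) _ _] at hxy'
        change G^[i + 1] x' = y at hy'
        rw [← hy', ← Function.iterate_add_apply, ← Function.iterate_add_apply] at hxy'
        change G^[i + j] x = (z : N) at hxz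
        rw [add_comm j i, hxz, show j + (i + 1) = i + (j + 1) by ring] at hxy'
        refine ⟨⟨G^[i + (j + 1)] x', hmap.iterate _ hx'⟩, ⟨x', hx', rfl⟩, ?_⟩
        rw [← hzc]
        have h0 := (C.ker (z - ⟨G^[i + (j + 1)] x', hmap.iterate _ hx'⟩)).2 hxy'
        rw [map_sub, sub_eq_zero] at h0
        exact h0.symm
    refine eq_bot_iff.2 fun c hc => ?_
    obtain ⟨z, ⟨x, hx, hxz⟩, hzc⟩ := this n hc
    rw [Submodule.mem_bot, ← hzc, C.ker, ← hxz]
    show P (p := p) (k := k) (-1) (G^[i + n] x) ∈ M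
    rw [add_comm, Function.iterate_add_apply]
    exact hn _ (hmap.iterate i hx)
  have hdim : ∀ i, C.sub (U i) = ⊥ ∨ Module.finrank k (C.sub (U i)) + i ≤ h₀ := by
    intro i
    induction i with
    | zero =>
      right
      have := Submodule.finrank_le (C.sub (U 0))
      rw [Module.finrank_fin_fun] at this
      omega
    | succ i ih =>
      rcases ih with h | h
      · left; exact eq_bot_iff.2 ((C.sub_mono (hdec i)).trans h.le)
      · by_cases hb : C.sub (U i) = ⊥
        · left; exact eq_bot_iff.2 ((C.sub_mono (hdec i)).trans hb.le)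
        · right
          have hlt : C.sub (U (i + 1)) < C.sub (U i) :=
            lt_of_le_of_ne (C.sub_mono (hdec i)) fun he => hb (hstab i he.ge)
          have := Submodule.finrank_lt_finrank_of_lt hlt
          omega
  apply hkill
  rcases hdim h₀ with h | h
  · exact h
  · exact Submodule.finrank_eq_zero.1 (by omega)

include hτ in
theorem slope_rational {F : N →ₛₗ[τ] N} (hF : Function.Injective F) {lam : ℝ}
    (hlam : IsFirstSlope F lam) :
    ∃ (r : ℤ) (s : ℕ) (M : Submodule W N), 0 < s ∧ s ≤ Module.finrank L N ∧ lam = (r : ℝ) / s ∧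
      M.IsLattice L ∧ IsOrd M F s r := by
  haveI := nontrivial_of_slope hlam
  set h₀ := Module.finrank L N
  have hh : 0 < h₀ := Module.finrank_pos
  obtain ⟨j, k', hk0, hkle, happ⟩ := Real.exists_int_int_abs_mul_sub_le lam hh
  obtain ⟨s, rfl⟩ := Int.eq_ofNat_of_zero_le hk0.le
  have hs : 0 < s := by exact_mod_cast hk0
  have hsle : s ≤ h₀ := by exact_mod_cast hkle
  simp only [Int.cast_natCast, abs_le] at happ
  set G := tw F j s with hG
  have hGinj := tw_injective hF j s
  have hlamG := slope_tw hτ hF hlam j s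
  obtain ⟨M, hM, hmap⟩ := effective_of_ge (hτ.pow s) hGinj hlamG (by
    rw [neg_div]; exact happ.1)
  have hnn := slope_nonneg (hτ.pow s) hGinj hlamG hM hmap
  have hzero : (s : ℝ) * lam - j = 0 := by
    by_contra hne
    have hpos : 0 < (s : ℝ) * lam - j := lt_of_le_of_ne hnn (Ne.symm hne)
    obtain ⟨o, ho, ht, hle⟩ := slope_any (hτ.pow s) hGinj hlamG hM
    obtain ⟨n, hn, hn1⟩ := ((ht.eventually (eventually_gt_nhds hpos)).and (eventually_ge_atTop 1)).exists
    have hn0 : (0 : ℝ) < n := by exact_mod_cast hn1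
    rw [lt_div_iff₀ hn0, zero_mul] at hn
    have ho1 : (1 : ℤ) ≤ o n := by exact_mod_cast hn
    have hnil := nilpotent_step (hτ.pow s) hM hmap (n := n) (fun x hx => by
      have := mapsTo_mono ho1 ((ord_iff G).1 (ho n)).1 hx
      rwa [SetLike.mem_coe, tw_apply] at this)
    have h1 : Set.MapsTo (tw G 1 h₀) M M := fun x hx => by
      rw [SetLike.mem_coe, tw_apply]; exact hnil x hx
    have h2 : (1 : ℝ) ≤ o h₀ := by exact_mod_cast ord_le (ho h₀) h1
    have h3 := hle h₀ hh
    have h4 : (1 : ℝ) / h₀ ≤ (o h₀ : ℝ) / h₀ := div_le_div_of_nonneg_right h2 (Nat.cast_nonneg _)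
    have h5 : (1 : ℝ) / ((h₀ : ℝ) + 1) < 1 / h₀ :=
      one_div_lt_one_div_of_lt (by exact_mod_cast hh) (by linarith)
    linarith [happ.2]
  refine ⟨j, s, M, hs, hsle, ?_, hM, (ord_iff F).2 ⟨hmap, fun hm => ?_⟩⟩
  · have : (s : ℝ) ≠ 0 := by exact_mod_cast hs.ne'
    field_simp
    linarith
  · have := slope_nonneg (hτ.pow s) (tw_injective hF _ _) (slope_tw hτ hF hlam (j + 1) s) hM hm
    push_cast at this
    linarith

include hτ in
theorem eq_div_of_image [Nontrivial N] {F : N →ₛₗ[τ] N} (hF : Function.Injective F)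
    {M : Submodule W N} (hM : M.IsLattice L) {r : ℤ} {s : ℕ} (hs : 0 < s)
    (himg : tw F r s '' M = M) :
    IsFirstSlope F ((r : ℝ) / s) ∧ r * Module.finrank L N = s * od F := by
  have hod := (image_eq_iff (hτ.pow s) (tw_injective hF r s) hM (Set.mapsTo_iff_image_subset.2 himg.le)).1 himg
  rw [od_tw hτ hF] at hod
  refine ⟨?_, by linarith⟩
  obtain ⟨o, ho, l, ht, -⟩ := exists_slope hτ hF hM
  have hos : ∀ n : ℕ, o (s * n) = r * n := by
    intro n
    refine le_antisymm ?_ (ord_le (ho _) (Set.mapsTo_iff_image_subset.2 (twMul_image himg n).le))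
    have h := od_nonneg (hτ.pow _) (tw_injective hF _ _) hM ((ord_iff F).1 (ho (s * n))).1
    rw [od_tw hτ hF] at h
    have hh : (1 : ℤ) ≤ Module.finrank L N := by exact_mod_cast Module.finrank_pos (R := L) (M := N)
    push_cast at h
    have h' : o (s * n) * Module.finrank L N ≤ r * n * Module.finrank L N := by
      have : (s : ℤ) * n * od F = r * n * Module.finrank L N := by linear_combination (n : ℤ) * hod
      linarith
    exact le_of_mul_le_mul_right h' (by omega)
  have hmul : Tendsto (fun n : ℕ => s * n) atTop atTop :=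
    tendsto_atTop_mono (fun n => Nat.le_mul_of_pos_left n hs) tendsto_id
  have h2 : Tendsto (fun n : ℕ => (o (s * n) : ℝ) / ((s * n : ℕ) : ℝ)) atTop (𝓝 ((r : ℝ) / s)) := by
    apply tendsto_const_nhds.congr'
    refine eventually_atTop.2 ⟨1, fun n hn => ?_⟩
    have : (n : ℝ) ≠ 0 := by exact_mod_cast (by omega : n ≠ 0)
    dsimp only
    rw [hos]
    push_cast
    field_simp
  have := tendsto_nhds_unique (ht.comp hmul) h2
  exact ⟨M, hM, o, fun n _ => ho n, this ▸ ht⟩

include hτ in
theorem image_of_slope {F : N →ₛₗ[τ] N} (hF : Function.Injective F)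
    (hlam : IsFirstSlope F ((od F : ℝ) / Module.finrank L N)) :
    ∃ M : Submodule W N, M.IsLattice L ∧ tw F (od F) (Module.finrank L N) '' M = M := by
  haveI := nontrivial_of_slope hlam
  have hh : (0 : ℝ) < (Module.finrank L N : ℝ) := by exact_mod_cast Module.finrank_pos (R := L) (M := N)
  obtain ⟨M, hM, hmap⟩ := lattice_of_le_slope hτ hF hlam (r := od F) (s := Module.finrank L N)
    (by rw [mul_div_cancel₀ _ hh.ne'])
  refine ⟨M, hM, (image_eq_iff (hτ.pow _) (tw_injective hF _ _) hM hmap).2 ?_⟩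
  rw [od_tw hτ hF]; ring

end LeadIsoc
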