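import Groth.Agent.Lead.Isoc.Pure

/-! Fitting decomposition of an effective isocrystal, existence of the slope decomposition. -/

noncomputable section

open scoped Pointwise
open Isoc Filter Topology

universe u v w

namespace LeadIsoc

variable {p : ℕ} [Fact p.Prime] {k : Type u} [Field k] [CharP k p] [PerfectRing k p]

local notation "W" => WittVector p k
local notation "L" => FractionRing (WittVector p k)
local notation "ι" => algebraMap (WittVector p k) (FractionRing (WittVector p k))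

variable {N : Type v} [AddCommGroup N] [Module (WittVector p k) N] [Module (FractionRing (WittVector p k)) N]
  [IsScalarTower (WittVector p k) (FractionRing (WittVector p k)) N]
  [Module.Finite (FractionRing (WittVector p k)) N]
variable {τ : FractionRing (WittVector p k) →+* FractionRing (WittVector p k)} (hτ : Tw τ)

/-- `x ≡ y` modulo `p^q M`. -/
def Cong (M : Submodule (WittVector p k) N) (q : ℕ) (x : N) : Prop :=
  P (p := p) (k := k) (-(q : ℤ)) x ∈ M

/-- `{x : p^{-q} f x ∈ M}` inside `M`. -/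
def levM (M : Submodule (WittVector p k) N) (q : ℕ) : Submodule (WittVector p k) N where
  carrier := {x | P (p := p) (k := k) (-(q : ℤ)) x ∈ M}
  zero_mem' := by simp [P]
  add_mem' := fun {a b} ha hb => by simp only [Set.mem_setOf_eq, P_add] at *; exact M.add_mem ha hb
  smul_mem' := fun t x hx => by simp only [Set.mem_setOf_eq, P_smul_W] at *; exact M.smul_mem _ hx

lemma mem_levM {M : Submodule W N} {q : ℕ} {x : N} :
    x ∈ levM M q ↔ P (p := p) (k := k) (-(q : ℤ)) x ∈ M := Iff.rfl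

lemma levM_le (M : Submodule W N) {q q' : ℕ} (h : q ≤ q') : levM M q' ≤ levM M q :=
  fun _ hx => P_mem_mono (by omega) hx

lemma levM_zero (M : Submodule W N) : levM M 0 = M := by
  ext x; simp [mem_levM]

/-- Quotient of `W` by `p^q` is artinian. -/
lemma isArtinian_quot (q : ℕ) : IsArtinian W (W ⧸ Ideal.span {(p : W) ^ q}) := by
  have hfin : Set.Finite {I : Ideal W | Ideal.span {(p : W) ^ q} ≤ I} := by
    apply Set.Finite.subset ((Finset.range (q + 1)).finite_toSet.image (fun i => Ideal.span {(p : W) ^ i}))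
    intro I hI
    have hne : I ≠ ⊥ := fun h => pow_ne_zero q pW_ne (by
      have := hI (Ideal.mem_span_singleton_self _)
      rwa [h, Ideal.mem_bot] at this)
    obtain ⟨i, hi⟩ := IsDiscreteValuationRing.ideal_eq_span_pow_irreducible hne (WittVector.irreducible p (k := k))
    refine ⟨i, Finset.mem_coe.2 (Finset.mem_range.2 ?_), hi.symm⟩
    have := hI (Ideal.mem_span_singleton_self _)
    rw [hi, Ideal.mem_span_singleton, pow_dvd_pow_iff pW_ne (WittVector.irreducible p).not_isUnit] at this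
    omega
  haveI : Finite (Set.Ici (Ideal.span {(p : W) ^ q} : Submodule W W)) := hfin.to_subtype
  haveI : Finite (Submodule W (W ⧸ Ideal.span {(p : W) ^ q})) :=
    Finite.of_equiv _ (Submodule.comapMkQRelIso (Ideal.span {(p : W) ^ q} : Submodule W W)).toEquiv.symm
  exact ⟨Finite.wellFounded_of_trans_of_irrefl _⟩

/-- Decreasing chains between `p^q M` and `M` stabilise. -/
lemma stabilizes {M : Submodule W N} (hM : M.IsLattice L) (q : ℕ) (U : ℕ → Submodule W N)
    (hU : Antitone U) (hlo : ∀ n, levM M q ≤ U n) (hhi : ∀ n, U n ≤ M) :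
    ∃ n, ∀ m, n ≤ m → U n = U m := by
  classical
  obtain ⟨B, hB⟩ := exists_basis hM
  choose w hw using fun x : M => (hB x.1).1 x.2
  haveI := isArtinian_quot (p := p) (k := k) q
  let red : M →ₗ[W] (Fin (Module.finrank L N) → W ⧸ Ideal.span {(p : W) ^ q}) :=
    { toFun := fun x i => Ideal.Quotient.mk _ (w x i)
      map_add' := fun x y => by
        funext i
        have : w (x + y) i = w x i + w y i := ι_inj (by rw [map_add, ← hw, ← hw, ← hw]; simp)
        simp [this]
      map_smul' := fun c x => by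
        funext i
        have : w (c • x) i = c * w x i := ι_inj (by
          rw [map_mul, ← hw, ← hw, Submodule.coe_smul, ← ι_smul, map_smul]; simp [Algebra.smul_def])
        simp [this, Algebra.smul_def] }
  have hker : ∀ x : M, red x = 0 ↔ (x : N) ∈ levM M q := by
    intro x
    rw [mem_levM, hB]
    simp only [red, LinearMap.coe_mk, AddHom.coe_mk, funext_iff, Pi.zero_apply,
      Ideal.Quotient.eq_zero_iff_mem, Ideal.mem_span_singleton]
    have hp : (p : L) ^ (q : ℤ) ≠ 0 := zpow_ne_zero _ pL_ne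
    constructor
    · intro h i
      obtain ⟨c, hc⟩ := h i
      refine ⟨c, ?_⟩
      rw [P, map_smul, Finsupp.smul_apply, smul_eq_mul, hw, hc, map_mul, ι_p_pow, zpow_neg, ← mul_assoc,
        inv_mul_cancel₀ hp, one_mul]
    · intro h i
      obtain ⟨c, hc⟩ := h i
      refine ⟨c, ι_inj ?_⟩
      rw [P, map_smul, Finsupp.smul_apply, smul_eq_mul, hw] at hc
      rw [map_mul, ι_p_pow, ← hc, zpow_neg, ← mul_assoc, mul_inv_cancel₀ hp, one_mul]
  let f : ℕ →o (Submodule W (Fin (Module.finrank L N) → W ⧸ Ideal.span {(p : W) ^ q}))ᵒᵈ :=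
    ⟨fun n => OrderDual.toDual (((U n).comap M.subtype).map red),
      fun a b hab => Submodule.map_mono (Submodule.comap_mono (hU hab))⟩
  obtain ⟨n, hn⟩ := IsArtinian.monotone_stabilizes f
  refine ⟨n, fun m hm => le_antisymm ?_ (hU hm)⟩
  intro x hx
  have h1 : ((U n).comap M.subtype).map red = ((U m).comap M.subtype).map red :=
    OrderDual.toDual.injective (hn m hm)
  obtain ⟨y, hy, hyx⟩ := h1.le ⟨⟨x, hhi n hx⟩, hx, rfl⟩
  have h2 : red (⟨x, hhi n hx⟩ - y) = 0 := by rw [map_sub, hyx, sub_self]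
  have h3 := hlo m ((hker _).1 h2)
  simpa using (U m).add_mem h3 hy

/-- Compatible sequences converge. -/
lemma exists_limit {M : Submodule W N} (hM : M.IsLattice L) (x : ℕ → N) (hx : ∀ q, x q ∈ M)
    (hc : ∀ q, x (q + 1) - x q ∈ levM M q) : ∃ a ∈ M, ∀ q, a - x q ∈ levM M q := by
  classical
  obtain ⟨B, hB⟩ := exists_basis hM
  choose w hw using fun q => (hB (x q)).1 (hx q)
  have hcoord : ∀ q (y : N), y ∈ levM M q ↔ ∀ i, ∃ c : W, B.repr y i = ι ((p : W) ^ q * c) := by
    intro q y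
    have hp : (p : L) ^ (q : ℤ) ≠ 0 := zpow_ne_zero _ pL_ne
    rw [mem_levM, hB]
    refine forall_congr' fun i => ?_
    rw [P, map_smul, Finsupp.smul_apply, smul_eq_mul, zpow_neg]
    constructor
    · rintro ⟨c, hc⟩
      exact ⟨c, by rw [map_mul, ι_p_pow, ← hc, ← mul_assoc, mul_inv_cancel₀ hp, one_mul]⟩
    · rintro ⟨c, hc⟩
      exact ⟨c, by rw [hc, map_mul, ι_p_pow, ← mul_assoc, inv_mul_cancel₀ hp, one_mul]⟩
  have hdvd : ∀ i q, (p : W) ^ q ∣ w (q + 1) i - w q i := by
    intro i q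
    obtain ⟨c, hc'⟩ := (hcoord q _).1 (hc q) i
    refine ⟨c, ι_inj ?_⟩
    rw [← hc', map_sub, map_sub, Finsupp.sub_apply, hw, hw]
  have hdvd' : ∀ i m n, m ≤ n → (p : W) ^ m ∣ w m i - w n i := by
    intro i m n hmn
    induction n, hmn using Nat.le_induction with
    | base => simp
    | succ n hn ih =>
      have h1 : (p : W) ^ m ∣ w (n + 1) i - w n i := (pow_dvd_pow _ hn).trans (hdvd i n)
      have := dvd_sub ih h1
      simpa using this
  have hlim : ∀ i, ∃ a : W, ∀ q, (p : W) ^ q ∣ w q i - a := by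
    intro i
    obtain ⟨a, ha⟩ := IsPrecomplete.prec (I := Ideal.span {(p : W)}) (M := W) inferInstance
      (f := fun q => w q i) (fun {m n} hmn => by
        rw [SModEq.sub_mem, smul_eq_mul, Ideal.mul_top, Ideal.span_singleton_pow, Ideal.mem_span_singleton]
        exact hdvd' i m n hmn)
    refine ⟨a, fun q => ?_⟩
    have := ha q
    rwa [SModEq.sub_mem, smul_eq_mul, Ideal.mul_top, Ideal.span_singleton_pow, Ideal.mem_span_singleton] at this
  choose a ha using hlim
  refine ⟨∑ i, ι (a i) • B i, (hB _).2 fun i => ⟨a i, by rw [B.repr_sum_self]⟩, fun q => (hcoord q _).2 fun i => ?_⟩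
  obtain ⟨c, hc'⟩ := ha i q
  refine ⟨-c, ?_⟩
  rw [map_sub, Finsupp.sub_apply, B.repr_sum_self, hw, mul_neg, ← hc', map_neg, map_sub]
  ring

section Fitting

variable {G : N →ₛₗ[τ] N} {M : Submodule (WittVector p k) N} (hG : Function.Injective G)
  (hM : M.IsLattice (FractionRing (WittVector p k))) (hmap : Set.MapsTo G M M)

include hmap in
lemma lev_maps (q : ℕ) {x : N} (hx : x ∈ levM M q) : G x ∈ levM M q := by
  rw [mem_levM, ← map_P]; exact hmap hx

include hmap in
lemma lev_maps_iter (q n : ℕ) {x : N} (hx : x ∈ levM M q) : G^[n] x ∈ levM M q := by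
  induction n with
  | zero => exact hx
  | succ n ih => rw [Function.iterate_succ_apply']; exact lev_maps hmap q ih

/-- Eventual image at level `q`. -/
def Aq (hτ : Tw τ) (G : N →ₛₗ[τ] N) (M : Submodule (WittVector p k) N) (q : ℕ) :
    Submodule (WittVector p k) N :=
  ⨅ n : ℕ, (img (hτ.pow n) (Isoc.iter G n) M ⊔ levM M q)

/-- Eventual kernel at level `q`. -/
def Bq (hτ : Tw τ) (G : N →ₛₗ[τ] N) (M : Submodule (WittVector p k) N) (q : ℕ) :
    Submodule (WittVector p k) N where
  carrier := {x | x ∈ M ∧ ∃ n, ∀ m, n ≤ m → G^[m] x ∈ levM M q}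
  zero_mem' := ⟨M.zero_mem, 0, fun m _ => by
    show Isoc.iter G m 0 ∈ _
    rw [map_zero]; exact zero_mem _⟩
  add_mem' := by
    rintro a b ⟨ha, n, hn⟩ ⟨hb, n', hn'⟩
    refine ⟨M.add_mem ha hb, max n n', fun m hm => ?_⟩
    show Isoc.iter G m (a + b) ∈ _
    rw [map_add]
    exact (levM M q).add_mem (hn m (le_of_max_le_left hm)) (hn' m (le_of_max_le_right hm))
  smul_mem' := by
    rintro t x ⟨hx, n, hn⟩
    refine ⟨M.smul_mem _ hx, n, fun m hm => ?_⟩
    show Isoc.iter G m (t • x) ∈ _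
    obtain ⟨t', ht'⟩ := map_W (hτ.pow m) (Isoc.iter G m) t
    rw [ht']; exact (levM M q).smul_mem _ (hn m hm)

/-- Kernel at level `q` of the `n`-th iterate. -/
def kerLev (hτ : Tw τ) (G : N →ₛₗ[τ] N) (M : Submodule (WittVector p k) N) (q n : ℕ) :
    Submodule (WittVector p k) M where
  carrier := {x | G^[n] (x : N) ∈ levM M q}
  zero_mem' := by
    show Isoc.iter G n ((0 : M) : N) ∈ levM M q
    rw [Submodule.coe_zero, map_zero]; exact zero_mem _
  add_mem' := fun {a b} ha hb => by
    show Isoc.iter G n ((a + b : M) : N) ∈ levM M q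
    rw [Submodule.coe_add, map_add]; exact (levM M q).add_mem ha hb
  smul_mem' := fun t x hx => by
    show Isoc.iter G n ((t • x : M) : N) ∈ levM M q
    obtain ⟨t', ht'⟩ := map_W (hτ.pow n) (Isoc.iter G n) t
    rw [Submodule.coe_smul, ht']; exact (levM M q).smul_mem _ hx

include hmap hM in
/-- Fitting at level `q`: a uniform bound, sum and intersection. -/
lemma fitting_level (q : ℕ) :
    (∀ x ∈ M, ∃ a ∈ Aq hτ G M q, ∃ b ∈ Bq hτ G M q, x = a + b) ∧
    (∀ x ∈ Aq hτ G M q, x ∈ Bq hτ G M q → x ∈ levM M q) ∧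
    (∃ n₀, ∀ x ∈ Bq hτ G M q, G^[n₀] x ∈ levM M q) := by
  have hlevM : levM M q ≤ M := (levM_le M (Nat.zero_le q)).trans (levM_zero M).le
  set U := fun n : ℕ => img (hτ.pow n) (Isoc.iter G n) M ⊔ levM M q with hU
  have hUanti : Antitone U := antitone_nat_of_succ_le fun n => by
    refine sup_le_sup_right ?_ _
    rintro _ ⟨x, hx, rfl⟩
    exact ⟨G x, hmap hx, (Function.iterate_succ_apply G n x).symm⟩
  have hUle : ∀ n, U n ≤ M := fun n => sup_le (by rintro _ ⟨x, hx, rfl⟩; exact hmap.iterate n hx) hlevM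
  obtain ⟨n₁, hn₁⟩ := stabilizes hM q U hUanti (fun n => le_sup_right) hUle
  haveI : IsNoetherian W M := isNoetherian_of_fg_of_noetherian M hM.fg
  let K : ℕ →o Submodule W M :=
    ⟨kerLev hτ G M q,
      fun a b hab x hx => by
        obtain ⟨c, rfl⟩ := Nat.exists_eq_add_of_le hab
        show G^[a + c] (x : N) ∈ levM M q
        rw [add_comm, Function.iterate_add_apply]
        exact lev_maps_iter hmap q c hx⟩
  obtain ⟨n₂, hn₂⟩ := monotone_stabilizes_iff_noetherian.2 (inferInstance : IsNoetherian W M) K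
  set n₀ := max n₁ n₂ with hn₀
  have hA : Aq hτ G M q = U n₀ := by
    refine le_antisymm (iInf_le _ n₀) (le_iInf fun n => ?_)
    calc U n₀ = U (max n₀ n) := by rw [← hn₁ n₀ (le_max_left _ _), ← hn₁ _ ((le_max_left n₁ n₂).trans (le_max_left _ _))]
      _ ≤ U n := hUanti (le_max_right _ _)
  have hB : ∀ x ∈ Bq hτ G M q, G^[n₀] x ∈ levM M q := by
    rintro x ⟨hx, n, hn⟩
    have h1 : (⟨x, hx⟩ : M) ∈ K (max n n₀) := hn _ (le_max_left _ _)
    rw [← hn₂ (max n n₀) ((le_max_right n₁ n₂).trans (le_max_right _ _)),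
      hn₂ n₀ (le_max_right _ _)] at h1
    exact h1
  have hB' : ∀ x ∈ M, G^[n₀] x ∈ levM M q → x ∈ Bq hτ G M q := fun x hx h =>
    ⟨hx, n₀, fun m hm => by
      obtain ⟨c, rfl⟩ := Nat.exists_eq_add_of_le hm
      rw [add_comm, Function.iterate_add_apply]
      exact lev_maps_iter hmap q c h⟩
  refine ⟨fun x hx => ?_, fun x hxA hxB => ?_, n₀, hB⟩
  · have h1 : G^[n₀] x ∈ U (n₀ + n₀) := by
      rw [← hn₁ (n₀ + n₀) (by omega), hn₁ n₀ (le_max_left _ _)]
      exact Submodule.mem_sup_left ⟨x, hx, rfl⟩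
    obtain ⟨_, ⟨y, hy, rfl⟩, z, hz, hzy⟩ := Submodule.mem_sup.1 h1
    refine ⟨G^[n₀] y, ?_, x - G^[n₀] y, hB' _ (M.sub_mem hx (hmap.iterate n₀ hy)) ?_, by abel⟩
    · rw [hA]; exact Submodule.mem_sup_left ⟨y, hy, rfl⟩
    · show Isoc.iter G n₀ (x - G^[n₀] y) ∈ _
      rw [map_sub]
      show G^[n₀] x - G^[n₀] (G^[n₀] y) ∈ _
      rw [← Function.iterate_add_apply, ← hzy]
      show Isoc.iter G (n₀ + n₀) y + z - Isoc.iter G (n₀ + n₀) y ∈ levM M q
      rwa [add_sub_cancel_left]
  · rw [hA] at hxA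
    obtain ⟨_, ⟨y, hy, rfl⟩, z, hz, rfl⟩ := Submodule.mem_sup.1 hxA
    have h1 := hB _ hxB
    change Isoc.iter G n₀ (Isoc.iter G n₀ y + z) ∈ _ at h1
    rw [map_add] at h1
    have h2 : G^[n₀] (G^[n₀] y) ∈ levM M q := by
      have := (levM M q).sub_mem h1 (lev_maps_iter hmap q n₀ hz)
      simpa [Isoc.iter_apply] using this
    rw [← Function.iterate_add_apply] at h2
    have h3 : (⟨y, hy⟩ : M) ∈ K (n₀ + n₀) := h2
    rw [← hn₂ (n₀ + n₀) (by omega), hn₂ n₀ (le_max_right _ _)] at h3
    exact (levM M q).add_mem h3 hz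

include hτ hG hM hmap in
/-- The Fitting decomposition. -/
theorem fitting : ∃ A B : Submodule W N, A ≤ M ∧ B ≤ M ∧ A.FG ∧ B.FG ∧
    (∀ x ∈ M, ∃ a ∈ A, ∃ b ∈ B, x = a + b) ∧ (∀ x, x ∈ A → x ∈ B → x = 0) ∧
    G '' A = A ∧ Set.MapsTo G B B ∧
    (∀ q : ℕ, ∃ n : ℕ, ∀ y ∈ B, P (p := p) (k := k) (-(q : ℤ)) (G^[n] y) ∈ B) := by
  have hlev : ∀ q, levM M q ≤ M := fun q => (levM_le M (Nat.zero_le q)).trans (levM_zero M).le
  have hAM : ∀ q, Aq hτ G M q ≤ M := fun q =>
    (iInf_le _ 0).trans (sup_le (by rintro _ ⟨x, hx, rfl⟩; exact hx) (hlev q))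
  have hA_lev : ∀ q, levM M q ≤ Aq hτ G M q := fun q => le_iInf fun n => le_sup_right
  have hB_lev : ∀ q, levM M q ≤ Bq hτ G M q := fun q x hx =>
    ⟨hlev q hx, 0, fun m _ => lev_maps_iter hmap q m hx⟩
  have hAmono : ∀ q, Aq hτ G M (q + 1) ≤ Aq hτ G M q := fun q =>
    iInf_mono fun n => sup_le_sup_left (levM_le M (Nat.le_succ q)) _
  have hBmono : ∀ q, Bq hτ G M (q + 1) ≤ Bq hτ G M q := fun q x hx =>
    ⟨hx.1, hx.2.choose, fun m hm => levM_le M (Nat.le_succ q) (hx.2.choose_spec m hm)⟩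
  have hAG : ∀ q, ∀ x ∈ Aq hτ G M q, G x ∈ Aq hτ G M q := by
    intro q x hx
    rw [Aq, Submodule.mem_iInf] at hx ⊢
    intro n
    obtain ⟨_, ⟨y, hy, rfl⟩, z, hz, rfl⟩ := Submodule.mem_sup.1 (hx n)
    rw [map_add]
    refine Submodule.add_mem _ (Submodule.mem_sup_left ⟨G y, hmap hy, ?_⟩) (Submodule.mem_sup_right (lev_maps hmap q hz))
    show G^[n] (G y) = G (G^[n] y)
    rw [← Function.iterate_succ_apply G n y, Function.iterate_succ_apply' G n y]
  have hBG : ∀ q, ∀ x ∈ Bq hτ G M q, G x ∈ Bq hτ G M q := by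
    rintro q x ⟨hx, n, hn⟩
    refine ⟨hmap hx, n, fun m hm => ?_⟩
    rw [← Function.iterate_succ_apply G m x, Function.iterate_succ_apply' G m x]
    exact lev_maps hmap q (hn m hm)
  set A := ⨅ q, Aq hτ G M q with hA
  set B := ⨅ q, Bq hτ G M q with hB
  have hAle : A ≤ M := (iInf_le _ 0).trans (hAM 0)
  have hBle : B ≤ M := (iInf_le _ 0).trans fun x hx => hx.1
  haveI : IsNoetherian W M := isNoetherian_of_fg_of_noetherian M hM.fg
  have hfg : ∀ X : Submodule W N, X ≤ M → X.FG := fun X hX => by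
    haveI : IsNoetherian W X := isNoetherian_of_le hX
    exact Module.Finite.iff_fg.1 inferInstance
  have closed : ∀ (S : ℕ → Submodule W N), (∀ q, levM M q ≤ S q) → ∀ (x : ℕ → N) (a : N),
      (∀ q, x q ∈ S q) → (∀ q, a - x q ∈ levM M q) → a ∈ ⨅ q, S q := by
    intro S hS x a hx ha
    rw [Submodule.mem_iInf]
    intro q
    simpa using (S q).add_mem (hS q (ha q)) (hx q)
  have hdec : ∀ x ∈ M, ∃ a ∈ A, ∃ b ∈ B, x = a + b := by
    intro x hx
    choose a ha b hb hab using fun q => (fitting_level hτ hM hmap q).1 x hx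
    have hcomp : ∀ q, a (q + 1) - a q ∈ levM M q := fun q => by
      refine (fitting_level hτ hM hmap q).2.1 _ ((Aq hτ G M q).sub_mem (hAmono q (ha (q + 1))) (ha q)) ?_
      have : a (q + 1) - a q = b q - b (q + 1) := by
        rw [sub_eq_sub_iff_add_eq_add, ← hab (q + 1), add_comm, ← hab q]
      rw [this]
      exact (Bq hτ G M q).sub_mem (hb q) (hBmono q (hb (q + 1)))
    obtain ⟨a', ha', hlim⟩ := exists_limit hM a (fun q => hAM q (ha q)) hcomp
    refine ⟨a', closed _ hA_lev a a' ha hlim, x - a', closed _ hB_lev b (x - a') hb (fun q => ?_), by abel⟩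
    have : x - a' - b q = -(a' - a q) := by
      have h' := hab q
      rw [show x - a' - b q = (x - b q) - a' by abel, show x - b q = a q by rw [h']; abel]
      abel
    rw [this]
    exact (levM M q).neg_mem (hlim q)
  have hsep : ∀ x, (∀ q, x ∈ levM M q) → x = 0 := fun x hx => separated hM hx
  have hAB : ∀ x, x ∈ A → x ∈ B → x = 0 := fun x hxA hxB => hsep x fun q =>
    (fitting_level hτ hM hmap q).2.1 x ((Submodule.mem_iInf _).1 hxA q) ((Submodule.mem_iInf _).1 hxB q)
  have hBmaps : Set.MapsTo G B B := fun x hx =>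
    (Submodule.mem_iInf _).2 fun q => hBG q x ((Submodule.mem_iInf _).1 hx q)
  refine ⟨A, B, hAle, hBle, hfg A hAle, hfg B hBle, hdec, hAB, ?_, hBmaps, fun q => ?_⟩
  · apply Set.eq_of_subset_of_subset
    · rintro _ ⟨x, hx, rfl⟩
      exact (Submodule.mem_iInf _).2 fun q => hAG q x ((Submodule.mem_iInf _).1 hx q)
    · intro a ha
      have hq : ∀ q, ∃ α ∈ A, a - G α ∈ levM M q := by
        intro q
        have h1 := (Submodule.mem_iInf _).1 ((Submodule.mem_iInf _).1 ha q) 1
        obtain ⟨_, ⟨y, hy, rfl⟩, z, hz, hza⟩ := Submodule.mem_sup.1 h1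
        obtain ⟨α, hα, β, hβ, rfl⟩ := hdec y hy
        refine ⟨α, hα, (fitting_level hτ hM hmap q).2.1 _
          ((Aq hτ G M q).sub_mem ((Submodule.mem_iInf _).1 ha q) (hAG q α ((Submodule.mem_iInf _).1 hα q))) ?_⟩
        have : a - G α = G β + z := by
          rw [← hza]
          show G (α + β) + z - G α = G β + z
          rw [map_add]; abel
        rw [this]
        exact (Bq hτ G M q).add_mem (hBG q β ((Submodule.mem_iInf _).1 hβ q)) (hB_lev q hz)
      choose α hα hαa using hq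
      have hcomp : ∀ q, α (q + 1) - α q ∈ levM M q := by
        intro q
        have h1 : G (α (q + 1) - α q) ∈ levM M q := by
          rw [map_sub, show G (α (q + 1)) - G (α q) = (a - G (α q)) - (a - G (α (q + 1))) by abel]
          exact (levM M q).sub_mem (hαa q) (levM_le M (Nat.le_succ q) (hαa (q + 1)))
        refine (fitting_level hτ hM hmap q).2.1 _
          ((Aq hτ G M q).sub_mem ((Submodule.mem_iInf _).1 (hα _) q) ((Submodule.mem_iInf _).1 (hα _) q))
          ⟨M.sub_mem (hAle (hα _)) (hAle (hα _)), 1, fun m hm => ?_⟩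
        obtain ⟨c, rfl⟩ := Nat.exists_eq_add_of_le hm
        rw [add_comm, Function.iterate_add_apply]
        exact lev_maps_iter hmap q c h1
      obtain ⟨α', hα'M, hlim⟩ := exists_limit hM α (fun q => hAle (hα q)) hcomp
      refine ⟨α', closed _ hA_lev α α' (fun q => (Submodule.mem_iInf _).1 (hα q) q) hlim, ?_⟩
      apply eq_of_sub_eq_zero
      refine hsep _ fun q => ?_
      have : G α' - a = G (α' - α q) - (a - G (α q)) := by rw [map_sub]; abel
      rw [this]
      exact (levM M q).sub_mem (lev_maps hmap q (hlim q)) (hαa q)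
  · obtain ⟨n, hn⟩ := (fitting_level hτ hM hmap q).2.2
    refine ⟨n, fun y hy => ?_⟩
    have h1 : P (p := p) (k := k) (-(q : ℤ)) (G^[n] y) ∈ M := hn y ((Submodule.mem_iInf _).1 hy q)
    obtain ⟨a, ha, b, hb, hab⟩ := hdec _ h1
    have h2 : P (p := p) (k := k) (q : ℤ) a ∈ B := by
      have h3 : G^[n] y ∈ B := hBmaps.iterate n hy
      have h4 : P (p := p) (k := k) (q : ℤ) b ∈ B := by rw [P_nat]; exact B.smul_mem _ hb
      have h5 : G^[n] y = P (p := p) (k := k) (q : ℤ) a + P (p := p) (k := k) (q : ℤ) b := by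
        rw [← P_add, ← hab, P_P, add_neg_cancel, P_zero]
      have := B.sub_mem h3 h4
      rwa [h5, add_sub_cancel_right] at this
    have h0 := hAB _ (by rw [P_nat]; exact A.smul_mem _ ha) h2
    have : a = 0 := P_inj (p := p) (k := k) (q : ℤ) (h0.trans (smul_zero _).symm)
    rw [this, zero_add] at hab
    rwa [hab]

end Fitting

include hτ in
/-- A non-pure isocrystal splits off a proper part. -/
theorem split {F : N →ₛₗ[τ] N} (hF : Function.Injective F) [Nontrivial N] :
    Pure F ((od F : ℚ) / Module.finrank L N) ⊤ ∨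
    ∃ Q R : Submodule L N, (∀ x ∈ Q, F x ∈ Q) ∧ (∀ x ∈ R, F x ∈ R) ∧ Q ⊔ R = ⊤ ∧ Q < ⊤ ∧ R < ⊤ := by
  set h₀ := Module.finrank L N
  obtain ⟨B, -⟩ : ∃ B : Module.Basis (Fin (Module.finrank L N)) L N, True := ⟨Module.finBasis L N, trivial⟩
  have hlat0 : ∃ M₀ : Submodule W N, M₀.IsLattice L := by
    refine ⟨Submodule.span W (Set.range B), Submodule.fg_span (Set.finite_range _), ?_⟩
    rw [Submodule.span_span_of_tower, B.span_eq]
  obtain ⟨M₀, hM₀⟩ := hlat0
  obtain ⟨o, ho, lam, ht, -⟩ := exists_slope hτ hF hM₀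
  have hlam : IsFirstSlope F lam := ⟨M₀, hM₀, o, fun n _ => ho n, ht⟩
  obtain ⟨r, s, M, hs, -, hl, hM, hord⟩ := slope_rational hτ hF hlam
  set G := tw F r s with hGdef
  have hmap : Set.MapsTo G M M := ((ord_iff F).1 hord).1
  have hGi := tw_injective hF r s
  have hh : (h₀ : ℚ) ≠ 0 := by exact_mod_cast (Module.finrank_pos (R := L) (M := N)).ne'
  by_cases hz : od G = 0
  · left
    have him := (image_eq_iff (hτ.pow s) hGi hM hmap).2 hz
    refine ⟨M, r, s, hs, ?_, hM.fg, hM.span_eq_top, him⟩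
    have h1 := (eq_div_of_image hτ hF hM hs him).2
    have hs' : (s : ℚ) ≠ 0 := by exact_mod_cast hs.ne'
    rw [div_eq_div_iff hs' hh]
    exact_mod_cast (by linarith : r * (h₀ : ℤ) = od F * s)
  right
  obtain ⟨A, B, hAM, hBM, hAfg, hBfg, hdec, hAB, hGA, hGB, hcontr⟩ := fitting (hτ.pow s) hGi hM hmap
  -- projections
  choose! α hα β hβ hx using hdec
  have uniq : ∀ {a a' b b'}, a ∈ A → a' ∈ A → b ∈ B → b' ∈ B → a + b = a' + b' → a = a' ∧ b = b' := by
    intro a a' b b' ha ha' hb hb' h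
    have h1 : a - a' = b' - b := by rw [sub_eq_sub_iff_add_eq_add, h, add_comm]
    have h2 := hAB (a - a') (A.sub_mem ha ha') (h1 ▸ B.sub_mem hb' hb)
    rw [sub_eq_zero] at h2
    subst h2
    exact ⟨rfl, add_left_cancel h⟩
  set Q := Submodule.span L (A : Set N)
  set R := Submodule.span L (B : Set N)
  have hQP : ∀ x ∈ Q, ∃ c : ℕ, P (p := p) (k := k) (c : ℤ) x ∈ A := fun x hx => exists_P_mem_span rfl hx
  have hRP : ∀ x ∈ R, ∃ c : ℕ, P (p := p) (k := k) (c : ℤ) x ∈ B := fun x hx => exists_P_mem_span rfl hx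
  have hdisj : ∀ x, x ∈ Q → x ∈ R → x = 0 := by
    intro x hxQ hxR
    obtain ⟨c, hc⟩ := hQP x hxQ
    obtain ⟨d, hd⟩ := hRP x hxR
    apply P_inj (p := p) (k := k) ((c + d : ℕ) : ℤ)
    rw [show P (p := p) (k := k) ((c + d : ℕ) : ℤ) (0 : N) = 0 from smul_zero _]
    exact hAB _ (P_mem_mono (by push_cast; omega) hc) (P_mem_mono (by push_cast; omega) hd)
  have hsup : Q ⊔ R = ⊤ := by
    rw [eq_top_iff, ← hM.span_eq_top, Submodule.span_le]
    intro x hxM
    rw [hx x hxM]
    exact Submodule.add_mem _ (Submodule.mem_sup_left (Submodule.subset_span (hα x hxM)))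
      (Submodule.mem_sup_right (Submodule.subset_span (hβ x hxM)))
  have hcompl : IsCompl Q R := ⟨Submodule.disjoint_def.2 hdisj, codisjoint_iff.2 hsup⟩
  let prQ : N →ₗ[L] N := Q.subtype.comp (Submodule.projectionOnto Q R hcompl)
  let prR : N →ₗ[L] N := R.subtype.comp (Submodule.projectionOnto R Q hcompl.symm)
  have hGQ : ∀ x ∈ Q, G x ∈ Q := by
    intro x hx
    obtain ⟨c, hc⟩ := hQP x hx
    have h1 := hGA.le ⟨_, hc, rfl⟩
    rw [map_P] at h1
    have := Submodule.smul_mem Q ((p : L) ^ (-(c : ℤ))) (Submodule.subset_span h1)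
    rwa [← P_def, P_P, neg_add_cancel, P_zero] at this
  have hGR : ∀ x ∈ R, G x ∈ R := by
    intro x hx
    obtain ⟨c, hc⟩ := hRP x hx
    have h1 := hGB hc
    rw [SetLike.mem_coe, map_P] at h1
    have := Submodule.smul_mem R ((p : L) ^ (-(c : ℤ))) (Submodule.subset_span h1)
    rwa [← P_def, P_P, neg_add_cancel, P_zero] at this
  have hprQ : ∀ x, prQ (G x) = G (prQ x) := by
    intro x
    obtain ⟨a, ha, b, hb, rfl⟩ := Submodule.mem_sup.1 (hsup ▸ Submodule.mem_top : x ∈ Q ⊔ R)
    simp only [prQ, LinearMap.comp_apply, map_add, Submodule.coe_subtype]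
    rw [Submodule.projectionOnto_apply_left hcompl ⟨G a, hGQ a ha⟩,
      Submodule.projectionOnto_apply_of_mem_right hcompl (hGR b hb),
      Submodule.projectionOnto_apply_left hcompl ⟨a, ha⟩,
      Submodule.projectionOnto_apply_of_mem_right hcompl hb]
    simp
  have hprR : ∀ x, prR (G x) = G (prR x) := by
    intro x
    obtain ⟨a, ha, b, hb, rfl⟩ := Submodule.mem_sup.1 (hsup ▸ Submodule.mem_top : x ∈ Q ⊔ R)
    simp only [prR, LinearMap.comp_apply, map_add, Submodule.coe_subtype]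
    rw [Submodule.projectionOnto_apply_left hcompl.symm ⟨G b, hGR b hb⟩,
      Submodule.projectionOnto_apply_of_mem_right hcompl.symm (hGQ a ha),
      Submodule.projectionOnto_apply_left hcompl.symm ⟨b, hb⟩,
      Submodule.projectionOnto_apply_of_mem_right hcompl.symm ha]
    simp
  have hFG : ∀ n x, F (G^[n] x) = G^[n] (F x) := by
    intro n x
    rw [hGdef, tw_iterate, tw_iterate, map_P, ← Function.iterate_succ_apply' (⇑F), Function.iterate_succ_apply]
  have hPQ : ∀ r x, prQ (F (P (p := p) (k := k) r x)) = P (p := p) (k := k) r (prQ (F x)) := fun r x => by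
    rw [map_P]; exact prQ.map_smul _ _
  have hPR : ∀ r x, prR (F (P (p := p) (k := k) r x)) = P (p := p) (k := k) r (prR (F x)) := fun r x => by
    rw [map_P]; exact prR.map_smul _ _
  have hiterQ : ∀ n x, prQ (F (G^[n] x)) = G^[n] (prQ (F x)) := by
    intro n x
    rw [hFG]
    induction n with
    | zero => rfl
    | succ n ih => rw [Function.iterate_succ_apply', hprQ, ih, Function.iterate_succ_apply']
  have hiterR : ∀ n x, prR (F (G^[n] x)) = G^[n] (prR (F x)) := by
    intro n x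
    rw [hFG]
    induction n with
    | zero => rfl
    | succ n ih => rw [Function.iterate_succ_apply', hprR, ih, Function.iterate_succ_apply']
  -- boundedness
  have hsepA := sep_span (τ := τ) (μ := 0) hτ hAfg (rfl : Submodule.span L (A : Set N) = Q)
  have hsepB := sep_span (τ := τ) (μ := 0) hτ hBfg (rfl : Submodule.span L (B : Set N) = R)
  let fR : N →+ N := prR.toAddMonoidHom.comp F.toAddMonoidHom
  let fQ : N →+ N := prQ.toAddMonoidHom.comp F.toAddMonoidHom
  have bound : ∀ (X Y : Submodule W N) (pr : N →ₗ[L] N), X.FG → (∀ x, pr x ∈ Submodule.span L (Y : Set N)) →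
      ∃ c : ℕ, ∀ x ∈ X, P (p := p) (k := k) (c : ℤ) (pr (F x)) ∈ Y := by
    intro X Y pr hX hpr
    obtain ⟨X', hX', hFX⟩ := fg_image hτ F hX
    obtain ⟨s, rfl⟩ := hX'
    choose c hc using fun x => exists_P_mem_span (rfl : Submodule.span L (Y : Set N) = _) (hpr x)
    refine ⟨s.sup c, fun x hx => ?_⟩
    have h1 := hFX x hx
    generalize F x = z at h1
    induction h1 using Submodule.span_induction with
    | mem y hy => exact P_mem_mono (Int.ofNat_le.2 (Finset.le_sup hy)) (hc y)
    | zero => simp [P]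
    | add a b _ _ ha hb => rw [map_add, P_add]; exact Y.add_mem ha hb
    | smul t y _ hy => rw [← ι_smul, map_smul, ι_smul, P_smul_W]; exact Y.smul_mem _ hy
  obtain ⟨c₁, hc₁⟩ := bound A B prR hAfg (fun x => (Submodule.projectionOnto R Q hcompl.symm x).2)
  obtain ⟨c₂, hc₂⟩ := bound B A prQ hBfg (fun x => (Submodule.projectionOnto Q R hcompl x).2)
  have hA0 : ∀ a ∈ A, prR (F a) = 0 :=
    hom_zero fR hPR G G A B (fun n x _ => hiterR n x) (fun n => image_iterate_ex hGA n) c₁ hc₁ hcontr hsepB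
  have hB0 : ∀ b ∈ B, prQ (F b) = 0 :=
    hom_zero' fQ hPQ G G hGi B A (fun n x _ => hiterQ n x) (fun n => image_iterate_ex hGA n) c₂ hc₂ hcontr hsepA
  have hFQ : ∀ x ∈ Q, F x ∈ Q := by
    intro x hx
    obtain ⟨c, hc⟩ := hQP x hx
    have h1 := hA0 _ hc
    rw [hPR] at h1
    have h2 : prR (F x) = 0 := P_inj (p := p) (k := k) (c : ℤ) (h1.trans (smul_zero _).symm)
    exact (Submodule.projectionOnto_apply_eq_zero_iff hcompl.symm).1 (Subtype.ext h2)
  have hFR : ∀ x ∈ R, F x ∈ R := by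
    intro x hx
    obtain ⟨c, hc⟩ := hRP x hx
    have h1 := hB0 _ hc
    rw [hPQ] at h1
    have h2 : prQ (F x) = 0 := P_inj (p := p) (k := k) (c : ℤ) (h1.trans (smul_zero _).symm)
    exact (Submodule.projectionOnto_apply_eq_zero_iff hcompl).1 (Subtype.ext h2)
  refine ⟨Q, R, hFQ, hFR, hsup, lt_top_iff_ne_top.2 fun hQ => hz ?_, lt_top_iff_ne_top.2 fun hR => ?_⟩
  · apply (image_eq_iff (hτ.pow s) hGi hM hmap).1
    have : (M : Set N) = A := by
      refine Set.eq_of_subset_of_subset (fun x hxM => ?_) hAM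
      have : β x = 0 := hdisj _ (hQ ▸ Submodule.mem_top) (Submodule.subset_span (hβ x hxM))
      rw [hx x hxM, this, add_zero]
      exact hα x hxM
    rw [this]; exact hGA
  · -- `G` topologically nilpotent contradicts the slope
    have hMB : ∀ x ∈ M, x ∈ B := fun x hxM => by
      have : α x = 0 := hdisj _ (Submodule.subset_span (hα x hxM)) (hR ▸ Submodule.mem_top)
      rw [hx x hxM, this, zero_add]
      exact hβ x hxM
    obtain ⟨n, hn⟩ := hcontr 1
    have h1 : Set.MapsTo (tw F (r * n + 1) (s * n)) M M := fun x hxM => by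
      have := hBM (hn x (hMB x hxM))
      rw [tw_iterate, P_P] at this
      rw [SetLike.mem_coe, tw_apply]
      convert this using 2
      push_cast; ring
    obtain ⟨o', ho', -, hle⟩ := slope_any hτ hF hlam hM
    have h2 : (r : ℝ) * n + 1 ≤ o' (s * n) := by exact_mod_cast ord_le (ho' (s * n)) h1
    have hn0 : n ≠ 0 := by
      rintro rfl
      have hsub : ∀ q : ℕ, ∀ x ∈ M, P (p := p) (k := k) (-(q : ℤ)) x ∈ M := by
        intro q
        induction q with
        | zero => simp
        | succ q ih =>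
          intro x hxM
          have := hBM (hn _ (hMB _ (ih x hxM)))
          rw [Function.iterate_zero_apply, P_P] at this
          convert this using 2
          push_cast; ring
      obtain ⟨x, hxne⟩ := exists_ne (0 : N)
      obtain ⟨c, hc⟩ := exists_P_mem (p := p) (k := k) hM.span_eq_top x
      exact hxne (P_inj (p := p) (k := k) (c : ℤ) ((separated hM fun q => hsub q _ hc).trans (smul_zero _).symm))
    have h3 := hle (s * n) (Nat.mul_pos hs (Nat.pos_of_ne_zero hn0))
    have h4 : (0 : ℝ) < ((s * n : ℕ) : ℝ) := by exact_mod_cast Nat.mul_pos hs (Nat.pos_of_ne_zero hn0)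
    rw [div_le_iff₀ h4, hl] at h3
    have hs' : (s : ℝ) ≠ 0 := by exact_mod_cast hs.ne'
    push_cast at h3
    field_simp at h3
    linarith

include hτ in
theorem slope_iSup {F : N →ₛₗ[τ] N} (hF : Function.Injective F) :
    ⨆ μ : ℚ, slopePart F μ = ⊤ := by
  suffices ∀ n : ℕ, ∀ Q : Submodule L N, (∀ x ∈ Q, F x ∈ Q) → Module.finrank L Q = n →
      Q ≤ ⨆ μ : ℚ, slopePart F μ by
    exact eq_top_iff.2 (this _ ⊤ (fun _ _ => trivial) rfl)
  intro n
  induction n using Nat.strong_induction_on with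
  | _ n ih =>
    intro Q hQ hn
    by_cases hQ0 : Q = ⊥
    · rw [hQ0]; exact bot_le
    haveI : Nontrivial Q := Submodule.nontrivial_iff_ne_bot.2 hQ0
    have hinj : Function.Injective (F.restrict hQ) :=
      fun a b h => Subtype.ext (hF (congrArg Subtype.val h))
    rcases split hτ hinj with h | ⟨Q₁, Q₂, h1, h2, hsup, hlt1, hlt2⟩
    · exact (le_slopePart hτ ⟨hQ, (pure_restrict_iff hQ _).1 h⟩).trans (le_iSup _ _)
    · have hs : ∀ R : Submodule L Q, (∀ x ∈ R, F.restrict hQ x ∈ R) → R < ⊤ →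
          R.map Q.subtype ≤ ⨆ μ : ℚ, slopePart F μ := by
        intro R hR hlt
        refine ih _ ?_ (R.map Q.subtype) ?_ rfl
        · rw [← hn, (Submodule.equivMapOfInjective _ Q.injective_subtype R).finrank_eq.symm]
          exact Submodule.finrank_lt hlt.ne
        · rintro _ ⟨x, hx, rfl⟩
          exact ⟨_, hR x hx, rfl⟩
      have := sup_le (hs Q₁ h1 hlt1) (hs Q₂ h2 hlt2)
      rwa [← Submodule.map_sup, hsup, Submodule.map_top, Submodule.range_subtype] at this

include hτ in
theorem slope_internal {F : N →ₛₗ[τ] N} (hF : Function.Injective F) :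
    DirectSum.IsInternal (fun μ : ℚ => slopePart F μ) :=
  (DirectSum.isInternal_submodule_iff_iSupIndep_and_iSup_eq_top _).2
    ⟨slope_indep hτ hF, slope_iSup hτ hF⟩

lemma det_blockDiag {R : Type*} [CommRing R] {o : Type*} [Fintype o] [LinearOrder o] {n : o → Type*}
    [∀ i, Fintype (n i)] [∀ i, DecidableEq (n i)] (A : Matrix (Σ i, n i) (Σ i, n i) R)
    (h : ∀ a b, a.1 ≠ b.1 → A a b = 0) :
    A.det = ∏ i, (Matrix.of fun x y => A ⟨i, x⟩ ⟨i, y⟩).det := by
  have hA : A.BlockTriangular Sigma.fst := fun a b hab => h a b (ne_of_gt hab)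
  rw [hA.det_fintype]
  refine Finset.prod_congr rfl fun i _ => ?_
  rw [← Matrix.det_submatrix_equiv_self (Equiv.sigmaSubtype i).symm]
  rfl

include hτ in
/-- `od = Σ μ m_μ`. -/
theorem od_sum {F : N →ₛₗ[τ] N} (hF : Function.Injective F) :
    ∑ᶠ μ : ℚ, μ * (newtonMult F μ : ℚ) = od F := by
  classical
  have hint := slope_internal hτ hF
  have hfin : {μ : ℚ | slopePart F μ ≠ ⊥}.Finite :=
    WellFoundedGT.finite_ne_bot_of_iSupIndep (slope_indep hτ hF)
  set S := hfin.toFinset
  have hsupS : ∀ μ, μ ∉ S → newtonMult F μ = 0 := by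
    intro μ hμ
    simp only [S, Set.Finite.mem_toFinset, Set.mem_setOf_eq, not_not] at hμ
    rw [newtonMult, hμ, finrank_bot]
  have hint' : DirectSum.IsInternal (fun μ : S => slopePart F μ) := by
    rw [DirectSum.isInternal_submodule_iff_iSupIndep_and_iSup_eq_top]
    refine ⟨(slope_indep hτ hF).comp Subtype.val_injective, ?_⟩
    rw [eq_top_iff, ← slope_iSup hτ hF]
    refine iSup_le fun μ => ?_
    by_cases hμ : μ ∈ S
    · exact le_iSup (fun μ : S => slopePart F μ) ⟨μ, hμ⟩
    · simp only [S, Set.Finite.mem_toFinset, Set.mem_setOf_eq, not_not] at hμ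
      rw [hμ]; exact bot_le
  have hst : ∀ μ : S, ∀ x ∈ slopePart F (μ : ℚ), F x ∈ slopePart F (μ : ℚ) :=
    fun μ => (slopePart_mem hτ (μ : ℚ)).1
  let b := hint'.collectedBasis fun μ : S => Module.finBasis L (slopePart F μ)
  let e := Fintype.equivFin (Σ μ : S, Fin (Module.finrank L (slopePart F μ)))
  rw [od_eq hτ hF (b.reindex e)]
  have hdet : detCoeff (b.reindex e) F =
      ∏ μ : S, detCoeff (Module.finBasis L (slopePart F μ)) (F.restrict (hst μ)) := by
    rw [detCoeff, ← Matrix.det_submatrix_equiv_self e]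
    refine (det_blockDiag _ ?_).trans ?_
    rotate_left
    · refine Finset.prod_congr rfl fun μ _ => ?_
      rw [detCoeff]
      congr 1
      ext i j
      have hb : b ⟨μ, j⟩ = (Module.finBasis L (slopePart F μ) j : N) := by
        simp [b, DirectSum.IsInternal.collectedBasis_coe]
      simp only [Matrix.submatrix_apply, Matrix.of_apply, Module.Basis.repr_reindex_apply,
        Module.Basis.reindex_apply, Equiv.symm_apply_apply, hb]
      exact DirectSum.IsInternal.collectedBasis_repr_of_mem hint' _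
        (hst μ _ (Module.finBasis L (slopePart F μ) j).2)
    · rintro ⟨μ, i⟩ ⟨ν, j⟩ h
      have hb : b ⟨ν, j⟩ = (Module.finBasis L (slopePart F ν) j : N) := by
        simp [b, DirectSum.IsInternal.collectedBasis_coe]
      simp only [Matrix.submatrix_apply, Matrix.of_apply, Module.Basis.repr_reindex_apply,
        Module.Basis.reindex_apply, Equiv.symm_apply_apply, hb]
      exact DirectSum.IsInternal.collectedBasis_repr_of_mem_ne hint' _ (Ne.symm h)
        (hst ν _ (Module.finBasis L (slopePart F ν) j).2)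
  rw [hdet]
  have hvprod : ∀ (T : Finset S) (f : S → L), (∀ i ∈ T, f i ≠ 0) →
      vp (∏ i ∈ T, f i) = ∑ i ∈ T, vp (f i) := by
    intro T f
    induction T using Finset.induction with
    | empty => intro _; simpa using vp_zpow (p := p) (k := k) 0
    | insert a T ha ih =>
      intro hne
      rw [Finset.prod_insert ha, Finset.sum_insert ha,
        vp_mul (hne a (Finset.mem_insert_self a T))
          (Finset.prod_ne_zero_iff.2 fun i hi => hne i (Finset.mem_insert_of_mem hi)),
        ih fun i hi => hne i (Finset.mem_insert_of_mem hi)]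
  have hinj : ∀ μ : S, Function.Injective (F.restrict (hst μ)) :=
    fun μ a b h => Subtype.ext (hF (congrArg Subtype.val h))
  rw [hvprod _ _ (fun μ _ => detCoeff_ne_zero hτ _ (hinj μ))]
  push_cast
  rw [finsum_eq_sum_of_support_subset _ (s := S) (fun μ hμ => by
    by_contra h
    rw [Function.mem_support] at hμ
    exact hμ (by rw [hsupS μ h]; simp)), ← Finset.sum_coe_sort S]
  apply Finset.sum_congr rfl
  intro μ _
  haveI : Nontrivial (slopePart F (μ : ℚ)) := Submodule.nontrivial_iff_ne_bot.2 (hfin.mem_toFinset.1 μ.2)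
  obtain ⟨M, r, s, hs, hμ, hfg, hsp, him⟩ :=
    (pure_restrict_iff (F := F) (hst μ) (μ : ℚ)).2 (slopePart_mem (F := F) hτ (μ : ℚ)).2
  have h1 := (eq_div_of_image hτ (hinj μ) ⟨hfg, hsp⟩ hs him).2
  rw [od_eq hτ (hinj μ) (Module.finBasis L (slopePart F (μ : ℚ)))] at h1
  have h2 : (r : ℚ) * Module.finrank L (slopePart F (μ : ℚ)) = (s : ℚ) *
      (vp (detCoeff (Module.finBasis L (slopePart F (μ : ℚ))) (F.restrict (hst μ))) : ℤ) := by
    exact_mod_cast h1
  have hs' : (s : ℚ) ≠ 0 := by exact_mod_cast hs.ne'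
  have h3 : (r : ℚ) = (μ : ℚ) * s := by rw [← hμ, div_mul_cancel₀ _ hs']
  rw [newtonMult]
  apply mul_left_cancel₀ hs'
  linear_combination h2 - (Module.finrank L (slopePart F (μ : ℚ)) : ℚ) * h3

end LeadIsoc
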