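import Groth.Agent.Lead.Isoc.Split

/-! Standard isocrystals are simple; a non-split extension over a finite field. -/

noncomputable section

open scoped Pointwise
open Isoc

universe u

namespace LeadIsoc

variable {p : ℕ} [Fact p.Prime] {k : Type u} [Field k] [CharP k p] [PerfectRing k p]

local notation "W" => WittVector p k
local notation "L" => FractionRing (WittVector p k)
local notation "ι" => algebraMap (WittVector p k) (FractionRing (WittVector p k))

variable {τ : FractionRing (WittVector p k) →+* FractionRing (WittVector p k)} (hτ : Tw τ)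

lemma natCast_L_ne {n : ℕ} (hn : n ≠ 0) : (n : L) ≠ 0 := by
  obtain ⟨e, c, hc, rfl⟩ := Nat.exists_eq_pow_mul_and_not_dvd hn p (Fact.out : p.Prime).ne_one
  intro h
  rw [Nat.cast_mul, Nat.cast_pow, mul_eq_zero] at h
  rcases h with h | h
  · exact pow_ne_zero e pL_ne h
  · have h0 : (c : W) = 0 := ι_inj (by rw [map_natCast, map_zero]; exact h)
    have := congrArg WittVector.constantCoeff h0
    rw [map_natCast, map_zero, CharP.cast_eq_zero_iff k p] at this
    exact hc this

lemma finRotate_symm_val {h : ℕ} (i : Fin h) :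
    ((finRotate h).symm i).val = if i.val = 0 then h - 1 else i.val - 1 := by
  obtain ⟨j, rfl⟩ : ∃ j, finRotate h j = i := ⟨_, Equiv.apply_symm_apply _ i⟩
  obtain ⟨n, rfl⟩ : ∃ n, h = n + 1 := ⟨h - 1, by have := j.2; omega⟩
  rw [Equiv.symm_apply_apply, coe_finRotate]
  by_cases hl : j = Fin.last n
  · subst hl; simp
  · rw [if_neg hl]
    simp

lemma std_iterate (d : ℤ) (h : ℕ) (x : Fin h → L) : ∀ j, j ≤ h → ∀ i i₀ : Fin h,
    (i₀.val + j = i.val ∨ i₀.val + j = i.val + h) →
    (stdIsoc τ d h)^[j] x i = (if i.val < j then (p : L) ^ d else 1) * (τ ^ j) (x i₀) := by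
  intro j
  induction j with
  | zero =>
    intro _ i i₀ hi
    have : i₀ = i := Fin.ext (by have := i.2; have := i₀.2; omega)
    subst this
    simp
  | succ j ih =>
    intro hj i i₀ hi
    rw [Function.iterate_succ_apply', stdIsoc_apply]
    have hv := finRotate_symm_val i
    have := i.2; have := i₀.2
    rw [ih (by omega) _ i₀ (by rw [hv]; split_ifs <;> omega), map_mul,
      show (τ ^ (j + 1)) (x i₀) = τ ((τ ^ j) (x i₀)) by rw [pow_succ']; rfl, ← mul_assoc]
    congr 1
    rw [hv]
    by_cases h0 : i.val = 0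
    · rw [if_pos h0, if_pos h0, if_neg (by omega : ¬ h - 1 < j), if_pos (by omega : i.val < j + 1)]
      simp
    · rw [if_neg h0, if_neg h0, one_mul]
      by_cases h1 : i.val - 1 < j
      · rw [if_pos h1, if_pos (by omega : i.val < j + 1), tw_p]
      · rw [if_neg h1, if_neg (by omega : ¬ i.val < j + 1), map_one]

lemma std_tw (d : ℤ) (h : ℕ) (x : Fin h → L) (i : Fin h) :
    tw (stdIsoc τ d h) d h x i = (τ ^ h) (x i) := by
  rw [tw_apply, P, Pi.smul_apply, std_iterate d h x h le_rfl i i (Or.inr rfl), if_pos i.2, smul_eq_mul,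
    ← mul_assoc, ← zpow_add₀ pL_ne, neg_add_cancel, zpow_zero, one_mul]

lemma std_injective (d : ℤ) (h : ℕ) : Function.Injective (stdIsoc τ d h) := by
  intro x y e
  funext i
  apply (τ ^ h).injective
  rw [← std_tw d h x i, ← std_tw d h y i]
  obtain ⟨n, rfl⟩ : ∃ n, h = n + 1 := ⟨h - 1, by have := i.2; omega⟩
  rw [tw_apply, tw_apply, Function.iterate_succ_apply, Function.iterate_succ_apply, e]

include hτ in
lemma std_pure (d : ℤ) (h : ℕ) (hh : 0 < h) : Pure (stdIsoc τ d h) ((d : ℚ) / h) ⊤ := by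
  classical
  refine ⟨Submodule.span W (Set.range (Pi.basisFun L (Fin h))), d, h, hh, rfl,
    Submodule.fg_span (Set.finite_range _), ?_, ?_⟩
  · rw [Submodule.span_span_of_tower, Module.Basis.span_eq]
  · have hmem : ∀ x : Fin h → L,
        x ∈ Submodule.span W (Set.range (Pi.basisFun L (Fin h))) ↔ ∀ i, IsInt (x i) := by
      intro x
      rw [Module.Basis.mem_span_iff_repr_mem]
      simp only [Pi.basisFun_repr, Set.mem_range, IsInt, eq_comm]
    ext y
    simp only [Set.mem_image, SetLike.mem_coe, hmem]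
    constructor
    · rintro ⟨x, hx, rfl⟩ i
      obtain ⟨w, hw⟩ := hx i
      obtain ⟨w', hw'⟩ := (hτ.pow h).pres w
      exact ⟨w', by rw [std_tw, hw, hw']⟩
    · intro hy
      choose w hw using hy
      choose w' hw' using fun i => (hτ.pow h).surjW (w i)
      exact ⟨fun i => ι (w' i), fun i => ⟨_, rfl⟩, funext fun i => by rw [std_tw, hw', hw]⟩

include hτ in
theorem std_simple (d : ℤ) (h : ℕ) (hh : 0 < h) (hdh : Int.gcd d h = 1)
    (Q : Submodule L (Fin h → L)) (hQ : ∀ x ∈ Q, stdIsoc τ d h x ∈ Q) : Q = ⊥ ∨ Q = ⊤ := by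
  by_cases h0 : Q = ⊥
  · exact Or.inl h0
  right
  haveI : Nontrivial Q := Submodule.nontrivial_iff_ne_bot.2 h0
  have hinj := std_injective (τ := τ) d h
  have hinj' : Function.Injective ((stdIsoc τ d h).restrict hQ) :=
    fun a b e => Subtype.ext (hinj (congrArg Subtype.val e))
  obtain ⟨M, r, s, hs, hμ, hfg, hsp, him⟩ :=
    (pure_restrict_iff hQ _).2 (pure_inter hτ hinj (std_pure hτ d h hh) le_top hQ)
  have h1 := (eq_div_of_image hτ hinj' ⟨hfg, hsp⟩ hs him).2
  set o := od ((stdIsoc τ d h).restrict hQ)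
  set n := Module.finrank L Q with hn
  have hs' : (s : ℚ) ≠ 0 := by exact_mod_cast hs.ne'
  have hh' : (h : ℚ) ≠ 0 := by exact_mod_cast hh.ne'
  rw [div_eq_div_iff hs' hh'] at hμ
  have hμ' : r * (h : ℤ) = d * s := by exact_mod_cast hμ
  have h2 : d * (n : ℤ) = h * o := by
    have : (s : ℤ) * (d * n) = s * (h * o) := by linear_combination (h : ℤ) * h1 - (n : ℤ) * hμ'
    exact mul_left_cancel₀ (by exact_mod_cast hs.ne') this
  have h3 : (h : ℤ) ∣ (n : ℤ) := by
    refine Int.dvd_of_dvd_mul_right_of_gcd_one ⟨o, h2⟩ ?_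
    rw [Int.gcd_comm]; exact hdh
  have h4 : h ≤ n := Nat.le_of_dvd Module.finrank_pos (Int.natCast_dvd_natCast.1 h3)
  apply Submodule.eq_top_of_finrank_eq
  have h5 := Q.finrank_le
  rw [Module.finrank_fin_fun] at h5 ⊢
  omega

lemma frob_one_iterate [Fintype k] {m : ℕ} (hm : Fintype.card k = p ^ m) (x : L) :
    (Isoc.frob p k 1)^[m] x = x := by
  have hW : ∀ w : W, (WittVector.frobeniusEquiv p k)^[m] w = w := by
    intro w
    ext i
    have : ∀ j : ℕ, ((WittVector.frobeniusEquiv p k)^[j] w).coeff i = w.coeff i ^ p ^ j := by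
      intro j
      induction j with
      | zero => simp
      | succ j ih =>
        rw [Function.iterate_succ_apply']
        show (WittVector.frobenius ((WittVector.frobeniusEquiv p k)^[j] w)).coeff i = _
        rw [WittVector.coeff_frobenius_charP, ih, ← pow_mul, ← pow_succ]
    rw [this m, ← hm, FiniteField.pow_card]
  have hι : ∀ (j : ℕ) (w : W), (Isoc.frob p k 1)^[j] (ι w) = ι ((WittVector.frobeniusEquiv p k)^[j] w) := by
    intro j
    induction j with
    | zero => simp
    | succ j ih =>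
      intro w
      rw [Function.iterate_succ_apply', ih, frob_algebraMap, Function.iterate_succ_apply', zpow_one]
  obtain ⟨⟨a, b⟩, h⟩ := IsLocalization.surj (nonZeroDivisors W) x
  have h1 := congrArg (fun z => (Isoc.frob p k 1)^[m] z) h
  simp only [iterate_map_mul, hι, hW] at h1
  exact mul_right_cancel₀ (fun e => nonZeroDivisors.ne_zero b.2 (ι_inj (e.trans (map_zero _).symm)))
    (h1.trans h.symm)

theorem no_compl [Finite k] (U : (Fin 2 → L) →ₛₗ[Isoc.frob p k 1] (Fin 2 → L))
    (hU0 : U (Pi.single 0 1) = Pi.single 0 1)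
    (hU1 : U (Pi.single 1 1) = Pi.single 0 1 + Pi.single 1 1)
    (Q : Submodule L (Fin 2 → L)) (hQ : ∀ x ∈ Q, U x ∈ Q) :
    ¬ IsCompl (Submodule.span L {(Pi.single 0 1 : Fin 2 → L)}) Q := by
  intro hc
  haveI := Fintype.ofFinite k
  obtain ⟨y, hy, q, hq, he⟩ := Submodule.mem_sup.1
    (hc.sup_eq_top ▸ Submodule.mem_top : (Pi.single 1 1 : Fin 2 → L) ∈ _ ⊔ Q)
  obtain ⟨a, rfl⟩ := Submodule.mem_span_singleton.1 hy
  have hq' : q = Pi.single 1 1 - a • Pi.single 0 1 := eq_sub_of_add_eq' he
  have h1 : U q - q ∈ Q := Q.sub_mem (hQ q hq) hq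
  have h2 : U q - q = (1 - Isoc.frob p k 1 a + a) • (Pi.single 0 1 : Fin 2 → L) := by
    rw [hq', map_sub, hU1, map_smulₛₗ, hU0]
    ext i
    simp only [Pi.add_apply, Pi.sub_apply, Pi.smul_apply, smul_eq_mul]
    ring
  have h3 : U q - q = 0 := Submodule.disjoint_def.1 hc.disjoint _
    (h2 ▸ Submodule.smul_mem _ _ (Submodule.mem_span_singleton_self _)) h1
  have h4 : Isoc.frob p k 1 a = a + 1 := by
    have := congrFun (h2.symm.trans h3) 0
    simp only [Pi.smul_apply, Pi.single_eq_same, smul_eq_mul, mul_one, Pi.zero_apply] at this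
    linear_combination -this
  obtain ⟨m, hp, hm⟩ := FiniteField.card k p
  have h5 : ∀ j : ℕ, (Isoc.frob p k 1)^[j] a = a + j := by
    intro j
    induction j with
    | zero => simp
    | succ j ih => rw [Function.iterate_succ_apply', ih, map_add, map_natCast, h4]; push_cast; ring
  have h6 := h5 m
  rw [frob_one_iterate hm, left_eq_add] at h6
  exact natCast_L_ne m.ne_zero h6

end LeadIsoc
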